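import Groth.Agent.FibCat.K160.Cart
import Groth.Agent.AlgSt.K734.FibFp
import Groth.Agent.Gerb.K895.Fib
/-!
K160.FpGrpd : the projections of a 2-fibre product of categories fibred in groupoids are fibred in groupoids.

* `isFibGrpd_fpFst` : `𝒴`, `𝒮` fibred in groupoids ⟹ `fpFst F G : 𝒳 ×_𝒮 𝒴 ⟶ 𝒳` is fibred in groupoids.
* `isFibGrpd_fpSnd` : `𝒳`, `𝒮` fibred in groupoids ⟹ `fpSnd F G : 𝒳 ×_𝒮 𝒴 ⟶ 𝒴` is fibred in groupoids.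
* `isFibGrpd_fp` : `𝒳`, `𝒴`, `𝒮` fibred in groupoids ⟹ `fp F G` fibred in groupoids.
-/

set_option autoImplicit false
set_option backward.isDefEq.respectTransparency false
set_option backward.isDefEq.respectTransparency.types false

universe v₄ u₄ v₃ u₃ v₂ u₂ v₁ u₁

open CategoryTheory CategoryTheory.Functor

namespace K160.FpGrpd

open K734.Fib

variable {C : Type u₁} [Category.{v₁} C]
variable {𝒳 : BasedCategory.{v₂, u₂} C} {𝒴 : BasedCategory.{v₃, u₃} C} {𝒮 : BasedCategory.{v₄, u₄} C}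

theorem fst_lift (F : 𝒳 ⥤ᵇ 𝒮) (G : 𝒴 ⥤ᵇ 𝒮) {a b : (FibCat.fp F G).obj} (f : a ⟶ b) :
    𝒳.p.IsHomLift (𝒳.p.map f.hom.fst) f.hom.fst := inferInstance

theorem snd_lift (F : 𝒳 ⥤ᵇ 𝒮) (G : 𝒴 ⥤ᵇ 𝒮) {a b : (FibCat.fp F G).obj} (f : a ⟶ b) :
    𝒴.p.IsHomLift (𝒳.p.map f.hom.fst) f.hom.snd := FibCat.fp_isHomLift_snd F G f

theorem fp_isHomLift_iff_fst (F : 𝒳 ⥤ᵇ 𝒮) (G : 𝒴 ⥤ᵇ 𝒮) {a b : (FibCat.fp F G).obj} (f : a ⟶ b)
    {R T : C} (g : R ⟶ T) : (FibCat.fp F G).p.IsHomLift g f ↔ 𝒳.p.IsHomLift g f.hom.fst :=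
  (BasedFunctor.isHomLift_iff (FibCat.fpFst F G) g f).symm

theorem fp_isHomLift_iff_snd (F : 𝒳 ⥤ᵇ 𝒮) (G : 𝒴 ⥤ᵇ 𝒮) {a b : (FibCat.fp F G).obj} (f : a ⟶ b)
    {R T : C} (g : R ⟶ T) : (FibCat.fp F G).p.IsHomLift g f ↔ 𝒴.p.IsHomLift g f.hom.snd :=
  (BasedFunctor.isHomLift_iff (FibCat.fpSnd F G) g f).symm

theorem isFibGrpd_fpFst (h𝒴 : FibCat.IsFibGrpd 𝒴.p) (h𝒮 : FibCat.IsFibGrpd 𝒮.p)
    (F : 𝒳 ⥤ᵇ 𝒮) (G : 𝒴 ⥤ᵇ 𝒮) : FibCat.IsFibGrpd (FibCat.fpFst F G).toFunctor where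
  exists_lift {a x'} f := by
    have hf : 𝒳.p.IsHomLift (𝒳.p.map f) f := inferInstance
    have ha : 𝒴.p.obj a.obj.snd = 𝒳.p.obj a.obj.fst := (FibCat.fpSnd F G).w_obj a
    obtain ⟨y', φ, hφ⟩ := K895.Fib.exists_lift h𝒴 (𝒳.p.map f) a.obj.snd ha
    have h1 : 𝒮.p.IsHomLift (𝒳.p.map f) (G.map φ) := inferInstance
    have h2 : 𝒮.p.IsHomLift (𝟙 (𝒳.p.obj a.obj.fst)) a.obj.iso.hom := a.property
    have h3 : 𝒮.p.IsHomLift (𝒳.p.map f) (F.map f ≫ a.obj.iso.hom) :=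
      K895.Fib.lift_comp_id (K895.Fib.lift_map F hf) h2
    obtain ⟨χ, h4, -, h5, -⟩ := K895.Fib.exists_iso h𝒮 (𝒳.p.map f) (G.map φ) (F.map f ≫ a.obj.iso.hom) h1 h3
    let b' : (FibCat.fp F G).obj := mkObj x' y' χ (IsVert.of_lift h4)
    let m : b' ⟶ a := mkHomFp f φ h5.symm
    exact ⟨b', m, CategoryTheory.IsHomLift.map (FibCat.fpFst F G).toFunctor m⟩
  isStronglyCartesian {b a} φ := by
    rw [K160.Cart.isSC_iff]
    intro z ψ g hg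
    have hg' : g ≫ φ.hom.fst = ψ.hom.fst := hg
    have h1 := snd_lift F G φ
    have h2 : 𝒴.p.IsHomLift (𝒳.p.map g ≫ 𝒳.p.map φ.hom.fst) ψ.hom.snd := by
      rw [← Functor.map_comp, hg']; exact snd_lift F G ψ
    obtain ⟨χ, h3, h4⟩ := K895.Fib.exists_fac h𝒴 (𝒳.p.map g) (𝒳.p.map φ.hom.fst) φ.hom.snd ψ.hom.snd h1 h2
    have hz : 𝒮.p.IsHomLift (𝟙 (𝒳.p.obj z.obj.fst)) z.obj.iso.hom := z.property
    have hb : 𝒮.p.IsHomLift (𝟙 (𝒳.p.obj b.obj.fst)) b.obj.iso.hom := b.property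
    have hgl : 𝒳.p.IsHomLift (𝒳.p.map g) g := inferInstance
    have w : F.map g ≫ b.obj.iso.hom = z.obj.iso.hom ≫ G.map χ := by
      refine K895.Fib.hom_unique h𝒮 (𝒳.p.map g) (𝒳.p.map φ.hom.fst) (G.map φ.hom.snd) inferInstance
        _ _ ?_ ?_ ?_
      · exact K895.Fib.lift_comp_id (K895.Fib.lift_map F hgl) hb
      · exact K895.Fib.lift_id_comp hz (K895.Fib.lift_map G h3)
      · rw [Category.assoc, Category.assoc, ← homFp_w φ, ← Functor.map_comp, h4, ← homFp_w ψ,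
          ← Category.assoc, ← Functor.map_comp, hg']
    refine ⟨mkHomFp g χ w, ⟨rfl, homFp_ext hg' h4⟩, ?_⟩
    rintro χ' ⟨h5, h6⟩
    have h5' : χ'.hom.fst = g := h5
    have h6' : χ'.hom.snd ≫ φ.hom.snd = ψ.hom.snd := congrArg (fun k => k.hom.snd) h6
    refine homFp_ext h5' ?_
    refine K895.Fib.hom_unique h𝒴 (𝒳.p.map g) (𝒳.p.map φ.hom.fst) φ.hom.snd h1 _ _ ?_ h3 ?_
    · rw [← h5']; exact snd_lift F G χ'
    · rw [h6']; exact h4.symm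

/-- `IsFibGrpd` transports along an isomorphism of categories over the target (strict form). -/
theorem isFibGrpd_fpSnd (h𝒳 : FibCat.IsFibGrpd 𝒳.p) (h𝒮 : FibCat.IsFibGrpd 𝒮.p)
    (F : 𝒳 ⥤ᵇ 𝒮) (G : 𝒴 ⥤ᵇ 𝒮) : FibCat.IsFibGrpd (FibCat.fpSnd F G).toFunctor where
  exists_lift {a y'} f := by
    obtain ⟨b, φ, hφ⟩ := (isFibGrpd_fpFst h𝒳 h𝒮 G F).exists_lift (x := (fpSwap F G).obj a) f
    have h1 := IsHomLift.domain_eq (FibCat.fpFst G F).toFunctor f φ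
    change b.obj.fst = y' at h1
    subst h1
    have h2 : f = φ.hom.fst :=
      IsHomLift.eq_of_isHomLift (FibCat.fpFst G F).toFunctor (a := b) (b := (fpSwap F G).obj a) f φ
    subst h2
    have hw1 : F.map φ.hom.snd ≫ a.obj.iso.hom = ((fpSwap G F).obj b).obj.iso.hom ≫ G.map φ.hom.fst := by
      have hw := homFp_w φ
      have e1 : ((fpSwap F G).obj a).obj.iso.hom = a.obj.iso.inv := rfl
      have e2 : ((fpSwap G F).obj b).obj.iso.hom = b.obj.iso.inv := rfl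
      rw [e1] at hw
      rw [e2, Iso.eq_inv_comp]
      change b.obj.iso.hom ≫ F.map φ.hom.snd ≫ a.obj.iso.hom = G.map φ.hom.fst
      rw [← Category.assoc, ← hw]
      simp
    let b' : (FibCat.fp F G).obj := (fpSwap G F).obj b
    let m : b' ⟶ a := mkHomFp φ.hom.snd φ.hom.fst hw1
    exact ⟨b', m, CategoryTheory.IsHomLift.map (FibCat.fpSnd F G).toFunctor m⟩
  isStronglyCartesian {b a} φ := by
    rw [K160.Cart.isSC_iff]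
    intro z ψ g hg
    have hsc := (isFibGrpd_fpFst h𝒳 h𝒮 G F).isStronglyCartesian ((fpSwap F G).map φ)
    rw [K160.Cart.isSC_iff] at hsc
    obtain ⟨χ, ⟨h1, h2⟩, h3⟩ := hsc ((fpSwap F G).map ψ) g hg
    have := full_of (isEquivOver_fpSwap F G)
    have := faithful_of (isEquivOver_fpSwap F G)
    obtain ⟨χ', rfl⟩ := (fpSwap F G).toFunctor.map_surjective χ
    refine ⟨χ', ⟨h1, (fpSwap F G).toFunctor.map_injective (by rw [Functor.map_comp]; exact h2)⟩, ?_⟩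
    rintro χ'' ⟨h4, h5⟩
    refine (fpSwap F G).toFunctor.map_injective (h3 _ ⟨h4, ?_⟩)
    subst h5
    exact ((fpSwap F G).toFunctor.map_comp _ _).symm

theorem isFibGrpd_fp (h𝒳 : FibCat.IsFibGrpd 𝒳.p) (h𝒴 : FibCat.IsFibGrpd 𝒴.p) (h𝒮 : FibCat.IsFibGrpd 𝒮.p)
    (F : 𝒳 ⥤ᵇ 𝒮) (G : 𝒴 ⥤ᵇ 𝒮) : FibCat.IsFibGrpd (FibCat.fp F G).p := by
  have := K160.Cart.isFibGrpd_comp (FibCat.fpFst F G).toFunctor 𝒳.p (isFibGrpd_fpFst h𝒴 h𝒮 F G) h𝒳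
  exact this

end K160.FpGrpd
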