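import Groth.Prelude.Def_W4stkcategoriessitesFib
/-!
K160.Cart : elementwise characterisation of strongly cartesian morphisms and of categories fibred in groupoids.
-/

set_option autoImplicit false

universe v₃ u₃ v₂ u₂ v₁ u₁

open CategoryTheory CategoryTheory.Functor

namespace K160.Cart

variable {𝒳 : Type u₂} [Category.{v₂} 𝒳] {C : Type u₁} [Category.{v₁} C]

/-- the elementwise form of being strongly cartesian over its own image -/
theorem isSC_iff (p : 𝒳 ⥤ C) {x y : 𝒳} (φ : x ⟶ y) :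
    p.IsStronglyCartesian (p.map φ) φ ↔
      ∀ ⦃z : 𝒳⦄ (ψ : z ⟶ y) (g : p.obj z ⟶ p.obj x), g ≫ p.map φ = p.map ψ →
        ∃! χ : z ⟶ x, p.map χ = g ∧ χ ≫ φ = ψ := by
  constructor
  · intro h z ψ g hg
    have hψ : p.IsHomLift (p.map ψ) ψ := inferInstance
    obtain ⟨χ, ⟨h1, h2⟩, h3⟩ := IsStronglyCartesian.universal_property p (p.map φ) φ g (p.map ψ) hg.symm ψ
    refine ⟨χ, ⟨(IsHomLift.eq_of_isHomLift p g χ).symm, h2⟩, ?_⟩
    rintro χ' ⟨h4, h5⟩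
    refine h3 χ' ⟨?_, h5⟩
    rw [← h4]; infer_instance
  · intro h
    refine { toIsHomLift := inferInstance, universal_property' := ?_ }
    intro z g ψ hψ
    have hψ' : g ≫ p.map φ = p.map ψ := IsHomLift.eq_of_isHomLift p (g ≫ p.map φ) ψ
    obtain ⟨χ, ⟨h1, h2⟩, h3⟩ := h ψ g hψ'
    refine ⟨χ, ⟨by rw [← h1]; infer_instance, h2⟩, ?_⟩
    rintro χ' ⟨h4, h5⟩
    exact h3 χ' ⟨(IsHomLift.eq_of_isHomLift p g χ').symm, h5⟩

/-- strongly cartesian over some morphism iff a lift of it and strongly cartesian over the own image -/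
theorem isSC_of_lift (p : 𝒳 ⥤ C) {x y : 𝒳} {R S : C} (f : R ⟶ S) (φ : x ⟶ y) [p.IsHomLift f φ]
    (h : p.IsStronglyCartesian (p.map φ) φ) : p.IsStronglyCartesian f φ := by
  obtain rfl := IsHomLift.domain_eq p f φ
  obtain rfl := IsHomLift.codomain_eq p f φ
  have : f = p.map φ := IsHomLift.eq_of_isHomLift p f φ
  rw [this]; exact h

theorem isSC_self (p : 𝒳 ⥤ C) {x y : 𝒳} {R S : C} (f : R ⟶ S) (φ : x ⟶ y)
    [h : p.IsStronglyCartesian f φ] : p.IsStronglyCartesian (p.map φ) φ := by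
  obtain rfl := IsHomLift.domain_eq p f φ
  obtain rfl := IsHomLift.codomain_eq p f φ
  have : f = p.map φ := IsHomLift.eq_of_isHomLift p f φ
  rw [← this]; exact h

theorem isSC_iff_self (p : 𝒳 ⥤ C) {x y : 𝒳} {R S : C} (f : R ⟶ S) (φ : x ⟶ y) :
    p.IsStronglyCartesian f φ ↔ p.IsHomLift f φ ∧ p.IsStronglyCartesian (p.map φ) φ :=
  ⟨fun _ => ⟨inferInstance, isSC_self p f φ⟩, fun h => have := h.1; isSC_of_lift p f φ h.2⟩

/-- strongly cartesian morphisms and composition of functors -/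
theorem isSC_comp {ℬ : Type u₃} [Category.{v₃} ℬ] (F : 𝒳 ⥤ ℬ) (G : ℬ ⥤ C) {x y : 𝒳} (φ : x ⟶ y)
    (hF : F.IsStronglyCartesian (F.map φ) φ) (hG : G.IsStronglyCartesian (G.map (F.map φ)) (F.map φ)) :
    (F ⋙ G).IsStronglyCartesian ((F ⋙ G).map φ) φ := by
  rw [isSC_iff] at *
  intro z ψ g hg
  obtain ⟨h, ⟨h1, h2⟩, h3⟩ := hG (F.map ψ) g hg
  obtain ⟨χ, ⟨h4, h5⟩, h6⟩ := hF ψ h h2
  refine ⟨χ, ⟨?_, h5⟩, ?_⟩
  · rw [← h1, ← h4]; rfl
  · rintro χ' ⟨h7, h8⟩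
    refine h6 χ' ⟨?_, h8⟩
    refine h3 _ ⟨h7, ?_⟩
    rw [← Functor.map_comp, h8]

theorem exists_sc_of_isFibered (p : 𝒳 ⥤ C) [p.IsFibered] {x : 𝒳} {R : C} (f : R ⟶ p.obj x) :
    ∃ (y : 𝒳) (φ : y ⟶ x), p.IsStronglyCartesian f φ :=
  ⟨IsPreFibered.pullbackObj rfl f, IsPreFibered.pullbackMap rfl f, inferInstance⟩

theorem exists_sc_of_isFibered' (p : 𝒳 ⥤ C) [p.IsFibered] {x : 𝒳} {R S : C} (hx : p.obj x = S) (f : R ⟶ S) :
    ∃ (y : 𝒳) (φ : y ⟶ x), p.IsStronglyCartesian f φ :=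
  ⟨IsPreFibered.pullbackObj hx f, IsPreFibered.pullbackMap hx f, inferInstance⟩

/-- strict form: choose a lift over a strictly equal base object -/
theorem isFibered_comp {ℬ : Type u₃} [Category.{v₃} ℬ] (F : 𝒳 ⥤ ℬ) (G : ℬ ⥤ C)
    [F.IsFibered] [G.IsFibered] : (F ⋙ G).IsFibered := by
  refine IsFibered.of_exists_isStronglyCartesian fun x R f => ?_
  obtain ⟨b, β, hβ⟩ := exists_sc_of_isFibered G (x := F.obj x) f
  obtain ⟨y, φ, hφ⟩ := exists_sc_of_isFibered F (x := x) β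
  have hb : F.obj y = b := IsHomLift.domain_eq F β φ
  subst hb
  have hβ' : β = F.map φ := IsHomLift.eq_of_isHomLift F β φ
  subst hβ'
  refine ⟨y, φ, ?_⟩
  have h1 := isSC_comp F G φ hφ (isSC_self G f (F.map φ))
  have : (F ⋙ G).IsHomLift f φ := by
    have h2 : G.IsHomLift f (F.map φ) := inferInstance
    exact IsHomLift.of_fac (F ⋙ G) f φ (IsHomLift.domain_eq G f (F.map φ))
      (IsHomLift.codomain_eq G f (F.map φ)) (IsHomLift.fac G f (F.map φ))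
  exact isSC_of_lift (F ⋙ G) f φ h1

theorem isFibGrpd_comp {ℬ : Type u₃} [Category.{v₃} ℬ] (F : 𝒳 ⥤ ℬ) (G : ℬ ⥤ C)
    (hF : FibCat.IsFibGrpd F) (hG : FibCat.IsFibGrpd G) : FibCat.IsFibGrpd (F ⋙ G) where
  exists_lift {x R} f := by
    obtain ⟨b, β, hβ⟩ := hG.exists_lift (x := F.obj x) f
    obtain ⟨y, φ, hφ⟩ := hF.exists_lift (x := x) β
    have hb : F.obj y = b := IsHomLift.domain_eq F β φ
    subst hb
    have hβ' : β = F.map φ := IsHomLift.eq_of_isHomLift F β φ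
    subst hβ'
    refine ⟨y, φ, IsHomLift.of_fac (F ⋙ G) f φ (IsHomLift.domain_eq G f (F.map φ))
      (IsHomLift.codomain_eq G f (F.map φ)) (IsHomLift.fac G f (F.map φ))⟩
  isStronglyCartesian φ := isSC_comp F G φ (hF.isStronglyCartesian φ) (hG.isStronglyCartesian _)

theorem isSC_of_isFibGrpd {p : 𝒳 ⥤ C} (h : FibCat.IsFibGrpd p) {x y : 𝒳} {R S : C} (f : R ⟶ S)
    (φ : x ⟶ y) [p.IsHomLift f φ] : p.IsStronglyCartesian f φ :=
  isSC_of_lift p f φ (h.isStronglyCartesian φ)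

theorem isFibered_of_isFibGrpd {p : 𝒳 ⥤ C} (h : FibCat.IsFibGrpd p) : p.IsFibered := by
  refine IsFibered.of_exists_isStronglyCartesian fun x R f => ?_
  obtain ⟨y, φ, hφ⟩ := h.exists_lift (x := x) f
  exact ⟨y, φ, isSC_of_isFibGrpd h f φ⟩

/-- strongly cartesian for the composite with the forgetful functor of a slice -/
theorem isSC_of_comp_faithful {ℬ : Type u₃} [Category.{v₃} ℬ] (F : 𝒳 ⥤ ℬ) (G : ℬ ⥤ C) [G.Faithful]
    {x y : 𝒳} (φ : x ⟶ y) (h : (F ⋙ G).IsStronglyCartesian ((F ⋙ G).map φ) φ) :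
    F.IsStronglyCartesian (F.map φ) φ := by
  rw [isSC_iff] at *
  intro z ψ g hg
  obtain ⟨χ, ⟨h1, h2⟩, h3⟩ := h ψ (G.map g) (by
    rw [Functor.comp_map, Functor.comp_map, ← Functor.map_comp, hg])
  refine ⟨χ, ⟨G.map_injective h1, h2⟩, ?_⟩
  rintro χ' ⟨h4, h5⟩
  exact h3 χ' ⟨by rw [Functor.comp_map, h4], h5⟩

end K160.Cart
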