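import Groth.Agent.FibCat.K160.Cart
/-!
K160.CartSub : the wide subcategory of strongly cartesian morphisms of a fibred category is fibred in groupoids.
-/

set_option autoImplicit false
set_option backward.isDefEq.respectTransparency false
set_option backward.isDefEq.respectTransparency.types false

universe v₃ u₃ v₂ u₂ v₁ u₁

open CategoryTheory CategoryTheory.Functor

namespace K160.CartSub

variable {𝒮 : Type u₂} [Category.{v₂} 𝒮] {C : Type u₁} [Category.{v₁} C]

theorem isFibGrpd (p : 𝒮 ⥤ C) [p.IsFibered] : FibCat.IsFibGrpd (FibCat.cartSubProj p) where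
  exists_lift {x V} f := by
    obtain ⟨y, φ, hφ⟩ := K160.Cart.exists_sc_of_isFibered p (x := x.obj) f
    refine ⟨⟨y⟩, ⟨φ, K160.Cart.isSC_self p f φ⟩, ?_⟩
    exact IsHomLift.of_fac _ _ _ (IsHomLift.domain_eq p f φ) (IsHomLift.codomain_eq p f φ)
      (IsHomLift.fac p f φ)
  isStronglyCartesian {y x} φ := by
    rw [K160.Cart.isSC_iff]
    intro z ψ g hg
    have hφ := φ.2
    have hψ := ψ.2
    change p.IsStronglyCartesian (p.map φ.1) φ.1 at hφ
    change p.IsStronglyCartesian (p.map ψ.1) ψ.1 at hψ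
    obtain ⟨χ, ⟨h1, h2⟩, h3⟩ := (K160.Cart.isSC_iff p φ.1).1 hφ ψ.1 g hg
    have hχ : p.IsStronglyCartesian (p.map χ) χ := by
      have : p.IsStronglyCartesian (p.map χ ≫ p.map φ.1) (χ ≫ φ.1) := by
        rw [← Functor.map_comp, h2]; exact hψ
      exact IsStronglyCartesian.of_comp p (g := p.map φ.1) (ψ := φ.1)
    refine ⟨⟨χ, hχ⟩, ⟨h1, ?_⟩, ?_⟩
    · exact WideSubcategory.hom_ext _ h2
    · rintro χ' ⟨h4, h5⟩
      exact WideSubcategory.hom_ext _ (h3 χ'.1 ⟨h4, congrArg (fun k => k.1) h5⟩)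

end K160.CartSub
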