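import Groth.Prelude.Def_W4stkcategoriessitesFib
/-!
K160.CatPB : functoriality of the 2-fibre product of plain categories: faithful, fully faithful, equivalence.
-/

set_option autoImplicit false
set_option backward.isDefEq.respectTransparency false
set_option backward.isDefEq.respectTransparency.types false
set_option backward.defeqAttrib.useBackward true

universe v₉ u₉ v₈ u₈ v₇ u₇ v₆ u₆ v₅ u₅ v₄ u₄ v₃ u₃ v₂ u₂ v u

open CategoryTheory CategoryTheory.Functor CategoryTheory.Limits

namespace K160.CatPB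

variable {X : Type u₄} {Y : Type u₅} {Z : Type u₆} {A : Type u₇} {B : Type u₈} {C' : Type u₉}
  [Category.{v₄} X] [Category.{v₅} Y] [Category.{v₆} Z] [Category.{v₇} A] [Category.{v₈} B] [Category.{v₉} C']
  {H : X ⥤ Z} {I : Y ⥤ Z} {F : A ⥤ C'} {G : B ⥤ C'}

variable (ψ : CatCospanTransform H I F G)

theorem obj_fst (x : CategoricalPullback H I) :
    ((FibCat.categoricalPullbackMap ψ).obj x).fst = ψ.left.obj x.fst := rfl

theorem obj_snd (x : CategoricalPullback H I) :
    ((FibCat.categoricalPullbackMap ψ).obj x).snd = ψ.right.obj x.snd := rfl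

theorem obj_iso_hom (x : CategoricalPullback H I) :
    ((FibCat.categoricalPullbackMap ψ).obj x).iso.hom =
      ψ.squareLeft.iso.inv.app x.fst ≫ ψ.base.map x.iso.hom ≫ ψ.squareRight.iso.hom.app x.snd := by
  simp [FibCat.categoricalPullbackMap]

theorem map_fst {x y : CategoricalPullback H I} (f : x ⟶ y) :
    ((FibCat.categoricalPullbackMap ψ).map f).fst = ψ.left.map f.fst := rfl

theorem map_snd {x y : CategoricalPullback H I} (f : x ⟶ y) :
    ((FibCat.categoricalPullbackMap ψ).map f).snd = ψ.right.map f.snd := rfl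

theorem faithful (hl : ψ.left.Faithful) (hr : ψ.right.Faithful) :
    (FibCat.categoricalPullbackMap ψ).Faithful where
  map_injective {x y} f g h := by
    apply CategoricalPullback.hom_ext
    · exact ψ.left.map_injective (congrArg (fun k => k.fst) h)
    · exact ψ.right.map_injective (congrArg (fun k => k.snd) h)

theorem full (hl : ψ.left.Full) (hr : ψ.right.Full) (hb : ψ.base.Faithful) :
    (FibCat.categoricalPullbackMap ψ).Full where
  map_surjective {x y} f := by
    obtain ⟨p, hp⟩ : ∃ p : x.fst ⟶ y.fst, ψ.left.map p = f.fst := ψ.left.map_surjective (f.fst)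
    obtain ⟨q, hq⟩ : ∃ q : x.snd ⟶ y.snd, ψ.right.map q = f.snd := ψ.right.map_surjective (f.snd)
    have hw := f.w
    rw [obj_iso_hom, obj_iso_hom, ← hp, ← hq] at hw
    have e1 : F.map (ψ.left.map p) ≫ ψ.squareLeft.iso.inv.app y.fst =
        ψ.squareLeft.iso.inv.app x.fst ≫ ψ.base.map (H.map p) := ψ.squareLeft.iso.inv.naturality p
    have e2 : ψ.base.map (I.map q) ≫ ψ.squareRight.iso.hom.app y.snd =
        ψ.squareRight.iso.hom.app x.snd ≫ G.map (ψ.right.map q) := ψ.squareRight.iso.hom.naturality q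
    have hw' : ψ.squareLeft.iso.inv.app x.fst ≫ (ψ.base.map (H.map p) ≫ ψ.base.map y.iso.hom) ≫
        ψ.squareRight.iso.hom.app y.snd = ψ.squareLeft.iso.inv.app x.fst ≫
        (ψ.base.map x.iso.hom ≫ ψ.base.map (I.map q)) ≫ ψ.squareRight.iso.hom.app y.snd := by
      simp only [Category.assoc]
      rw [← Category.assoc, ← e1, Category.assoc, e2]
      simpa using hw
    have hw'' := (cancel_epi _).1 hw'
    rw [cancel_mono, ← Functor.map_comp, ← Functor.map_comp] at hw''
    refine ⟨⟨p, q, ψ.base.map_injective hw''⟩, ?_⟩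
    apply CategoricalPullback.hom_ext
    · exact hp
    · exact hq

theorem essSurj (hl : ψ.left.EssSurj) (hr : ψ.right.EssSurj) (hb : ψ.base.Full) (hb' : ψ.base.Faithful) :
    (FibCat.categoricalPullbackMap ψ).EssSurj where
  mem_essImage z := by
    let x := ψ.left.objPreimage z.fst
    let ex : ψ.left.obj x ≅ z.fst := ψ.left.objObjPreimageIso z.fst
    let y := ψ.right.objPreimage z.snd
    let ey : ψ.right.obj y ≅ z.snd := ψ.right.objObjPreimageIso z.snd
    let i : ψ.base.obj (H.obj x) ≅ ψ.base.obj (I.obj y) :=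
      ψ.squareLeft.iso.app x ≪≫ F.mapIso ex ≪≫ z.iso ≪≫ (G.mapIso ey).symm ≪≫ (ψ.squareRight.iso.app y).symm
    let j : H.obj x ≅ I.obj y := ψ.base.preimageIso i
    have hj : ψ.base.map j.hom = i.hom := Functor.map_preimage _ _
    refine ⟨⟨x, y, j⟩, ⟨CategoricalPullback.mkIso ex ey ?_⟩⟩
    rw [obj_iso_hom, hj]
    simp [i]

end K160.CatPB
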