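import Groth.Agent.FibCat.K160.Terminal
import Groth.Agent.FibCat.K160.FpGrpd
import Mathlib.CategoryTheory.Limits.Constructions.Equalizers
/-!
K160.DiagRep : the diagonal is representable iff every functor out of a slice is representable.
-/

set_option autoImplicit false
set_option backward.isDefEq.respectTransparency false
set_option backward.isDefEq.respectTransparency.types false

universe v₃ u₃ v₂ u₂ v₁ u₁

open CategoryTheory CategoryTheory.Functor CategoryTheory.Limits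

namespace K160.DiagRep

open K734.Fib K160.Terminal

variable {C : Type u₁} [Category.{v₁} C]
variable {𝒮 : BasedCategory.{v₂, u₂} C} {𝒲 : BasedCategory.{v₃, u₃} C}

/-- the structure functor -/
abbrev t (𝒮 : BasedCategory.{v₂, u₂} C) := FibCat.toSelf 𝒮

/-- the diagonal -/
abbrev D (𝒮 : BasedCategory.{v₂, u₂} C) := FibCat.diag (FibCat.toSelf 𝒮)

/-- any two functors to the base are 2-isomorphic -/
def selfIso (A B : 𝒲 ⥤ᵇ FibCat.selfOver C) : A ≅ B :=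
  mkIso (fun w => eqToIso ((A.w_obj w).trans (B.w_obj w).symm))
    (fun w => isVert_iff.2 ⟨(A.w_obj w).trans (B.w_obj w).symm, rfl⟩)
    (fun {w w'} f => by
      have h1 : A.map f = eqToHom (A.w_obj w) ≫ 𝒲.p.map f ≫ eqToHom (A.w_obj w').symm := map_eq_base A f
      have h2 : B.map f = eqToHom (B.w_obj w) ≫ 𝒲.p.map f ≫ eqToHom (B.w_obj w').symm := map_eq_base B f
      rw [h1, h2]; simp)

/-- the 2-isomorphism relating the two components of a functor into `𝒮 ×_C 𝒮` over the base change of the diagonal -/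
def cmpIso (H : 𝒲 ⥤ᵇ FibCat.fp (t 𝒮) (t 𝒮)) :
    BasedFunctor.comp (FibCat.fpFst H (D 𝒮)) (BasedFunctor.comp H (FibCat.fpFst (t 𝒮) (t 𝒮))) ≅
    BasedFunctor.comp (FibCat.fpFst H (D 𝒮)) (BasedFunctor.comp H (FibCat.fpSnd (t 𝒮) (t 𝒮))) :=
  wr (FibCat.fpIso H (D 𝒮)) (FibCat.fpFst (t 𝒮) (t 𝒮)) ≪≫
    (wr (FibCat.fpIso H (D 𝒮)) (FibCat.fpSnd (t 𝒮) (t 𝒮))).symm

/-- first component of the structure isomorphism -/
def m₁ {H : 𝒲 ⥤ᵇ FibCat.fp (t 𝒮) (t 𝒮)} (q : (FibCat.fp H (D 𝒮)).obj) :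
    (H.obj q.obj.fst).obj.fst ≅ q.obj.snd := (FibCat.fpFst (t 𝒮) (t 𝒮)).mapIso q.obj.iso

/-- second component of the structure isomorphism -/
def m₂ {H : 𝒲 ⥤ᵇ FibCat.fp (t 𝒮) (t 𝒮)} (q : (FibCat.fp H (D 𝒮)).obj) :
    (H.obj q.obj.fst).obj.snd ≅ q.obj.snd := (FibCat.fpSnd (t 𝒮) (t 𝒮)).mapIso q.obj.iso

theorem m₁_vert {H : 𝒲 ⥤ᵇ FibCat.fp (t 𝒮) (t 𝒮)} (q : (FibCat.fp H (D 𝒮)).obj) :
    IsVert 𝒮 (m₁ q).hom := (iso_vert q).map (FibCat.fpFst (t 𝒮) (t 𝒮))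

theorem m₂_vert {H : 𝒲 ⥤ᵇ FibCat.fp (t 𝒮) (t 𝒮)} (q : (FibCat.fp H (D 𝒮)).obj) :
    IsVert 𝒮 (m₂ q).hom := (iso_vert q).map (FibCat.fpSnd (t 𝒮) (t 𝒮))

theorem cmpIso_hom (H : 𝒲 ⥤ᵇ FibCat.fp (t 𝒮) (t 𝒮)) (q : (FibCat.fp H (D 𝒮)).obj) :
    (app (cmpIso H) q).hom = (m₁ q).hom ≫ (m₂ q).inv := rfl

theorem nat₁ {H : 𝒲 ⥤ᵇ FibCat.fp (t 𝒮) (t 𝒮)} {q q' : (FibCat.fp H (D 𝒮)).obj} (f : q ⟶ q') :
    (H.map f.hom.fst).hom.fst ≫ (m₁ q').hom = (m₁ q).hom ≫ f.hom.snd :=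
  congrArg (fun k => k.hom.fst) (homFp_w f)

theorem nat₂ {H : 𝒲 ⥤ᵇ FibCat.fp (t 𝒮) (t 𝒮)} {q q' : (FibCat.fp H (D 𝒮)).obj} (f : q ⟶ q') :
    (H.map f.hom.fst).hom.snd ≫ (m₂ q').hom = (m₂ q).hom ≫ f.hom.snd :=
  congrArg (fun k => k.hom.snd) (homFp_w f)

/-- morphisms of the base change of the diagonal are determined by their first component -/
theorem hom_ext_fst {H : 𝒲 ⥤ᵇ FibCat.fp (t 𝒮) (t 𝒮)} {q q' : (FibCat.fp H (D 𝒮)).obj} {f g : q ⟶ q'}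
    (h : f.hom.fst = g.hom.fst) : f = g := by
  refine homFp_ext h ?_
  rw [← cancel_epi (m₁ q).hom, ← nat₁ f, ← nat₁ g, h]

/-- construction of morphisms of the base change of the diagonal -/
theorem exists_hom {H : 𝒲 ⥤ᵇ FibCat.fp (t 𝒮) (t 𝒮)} {q q' : (FibCat.fp H (D 𝒮)).obj}
    (a : q.obj.fst ⟶ q'.obj.fst)
    (h : (H.map a).hom.fst ≫ (m₁ q').hom ≫ (m₂ q').inv = ((m₁ q).hom ≫ (m₂ q).inv) ≫ (H.map a).hom.snd) :
    ∃ f : q ⟶ q', f.hom.fst = a := by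
  refine ⟨mkHomFp a ((m₁ q).inv ≫ (H.map a).hom.fst ≫ (m₁ q').hom) ?_, rfl⟩
  apply homFp_ext
  · show (H.map a).hom.fst ≫ (m₁ q').hom = (m₁ q).hom ≫ (m₁ q).inv ≫ (H.map a).hom.fst ≫ (m₁ q').hom
    simp
  · show (H.map a).hom.snd ≫ (m₂ q').hom = (m₂ q).hom ≫ (m₁ q).inv ≫ (H.map a).hom.fst ≫ (m₁ q').hom
    have h2 : (H.map a).hom.snd = (m₂ q).hom ≫ (m₁ q).inv ≫ (H.map a).hom.fst ≫ (m₁ q').hom ≫ (m₂ q').inv := by
      rw [h]; simp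
    rw [h2]; simp

theorem self_eq {a b : (FibCat.selfOver C).obj} {φ ψ : a ⟶ b} (h : IsVert (FibCat.selfOver C) φ)
    (h' : IsVert (FibCat.selfOver C) ψ) : φ = ψ :=
  h.map_eq.trans h'.map_eq.symm

/-- construction of objects of the base change of the diagonal -/
def mkQ (H : 𝒲 ⥤ᵇ FibCat.fp (t 𝒮) (t 𝒮)) (w : 𝒲.obj) (s : 𝒮.obj)
    (i : (H.obj w).obj.fst ≅ s) (hi : IsVert 𝒮 i.hom) (j : (H.obj w).obj.snd ≅ s) (hj : IsVert 𝒮 j.hom) :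
    (FibCat.fp H (D 𝒮)).obj :=
  mkObj w s (mkIsoFp (b := (D 𝒮).obj s) i j (self_eq ((hi.map (t 𝒮)).comp (iso_vert _)) ((iso_vert _).comp (hj.map (t 𝒮)))))
    (vert_fp_iff_fst.2 hi)

theorem mkQ_m₁ (H : 𝒲 ⥤ᵇ FibCat.fp (t 𝒮) (t 𝒮)) (w : 𝒲.obj) (s : 𝒮.obj)
    (i : (H.obj w).obj.fst ≅ s) (hi : IsVert 𝒮 i.hom) (j : (H.obj w).obj.snd ≅ s) (hj : IsVert 𝒮 j.hom) :
    m₁ (mkQ H w s i hi j hj) = i := by ext; rfl

theorem mkQ_m₂ (H : 𝒲 ⥤ᵇ FibCat.fp (t 𝒮) (t 𝒮)) (w : 𝒲.obj) (s : 𝒮.obj)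
    (i : (H.obj w).obj.fst ≅ s) (hi : IsVert 𝒮 i.hom) (j : (H.obj w).obj.snd ≅ s) (hj : IsVert 𝒮 j.hom) :
    m₂ (mkQ H w s i hi j hj) = j := by ext; rfl

section Forward

variable [HasBinaryProducts C] {U V : C} (G' : FibCat.overCat V ⥤ᵇ 𝒮) (G : FibCat.overCat U ⥤ᵇ 𝒮)

/-- the functor `C/(V × U) ⟶ 𝒮 ×_C 𝒮` -/
noncomputable def prodH : FibCat.overCat (V ⨯ U) ⥤ᵇ FibCat.fp (t 𝒮) (t 𝒮) :=
  FibCat.fpLift (BasedFunctor.comp (overMap prod.fst) G') (BasedFunctor.comp (overMap prod.snd) G) (selfIso _ _)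

/-- `(C/(V × U)) ×_{𝒮 ×_C 𝒮} 𝒮 ⟶ C/V ×_𝒮 C/U` -/
noncomputable def Phi : FibCat.fp (prodH G' G) (D 𝒮) ⥤ᵇ FibCat.fp G' G :=
  FibCat.fpLift (BasedFunctor.comp (FibCat.fpFst _ _) (overMap prod.fst))
    (BasedFunctor.comp (FibCat.fpFst _ _) (overMap prod.snd)) (cmpIso (prodH G' G))

omit [HasBinaryProducts C] in
theorem left_eq {V U : C} {G' : FibCat.overCat V ⥤ᵇ 𝒮} {G : FibCat.overCat U ⥤ᵇ 𝒮}
    {x x' : (FibCat.overCat V).obj} {y y' : (FibCat.overCat U).obj} (hx : x.left = y.left) (hx' : x'.left = y'.left)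
    (f : x ⟶ x') (g : y ⟶ y') {a : G'.obj x ⟶ G.obj y} (ha : IsVert 𝒮 a) {b : G'.obj x' ⟶ G.obj y'}
    (hb : IsVert 𝒮 b) (h : G'.map f ≫ b = a ≫ G.map g) : f.left ≫ eqToHom hx' = eqToHom hx ≫ g.left := by
  have h1 := congrArg 𝒮.p.map h
  rw [Functor.map_comp, Functor.map_comp, ha.map_eq, hb.map_eq, map_eq_base, map_eq_base] at h1
  change (eqToHom _ ≫ f.left ≫ eqToHom _) ≫ eqToHom _ = eqToHom _ ≫ eqToHom _ ≫ g.left ≫ eqToHom _ at h1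
  rw [← cancel_epi (eqToHom (G'.w_obj x)), ← cancel_mono (eqToHom (G.w_obj y').symm)]
  simpa using h1

theorem isEquivOver_Phi : FibCat.IsEquivOver (Phi G' G) := by
  refine isTwoCart_of _ _ _ ?_ ?_ ?_
  · intro q q' f g hfg
    have h1 : f.left = g.left := by
      have := left_eq (G' := G') (G := G)
        (hx := (rfl : ((overMap (prod.fst : V ⨯ U ⟶ V)).obj q.obj.fst).left =
          ((overMap (prod.snd : V ⨯ U ⟶ U)).obj q.obj.fst).left))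
        (hx' := (rfl : ((overMap (prod.fst : V ⨯ U ⟶ V)).obj q'.obj.fst).left =
          ((overMap (prod.snd : V ⨯ U ⟶ U)).obj q'.obj.fst).left)) f g (app_vert (cmpIso (prodH G' G)) q)
        (app_vert (cmpIso (prodH G' G)) q') hfg
      simpa using this
    have h2 : f.left ≫ q'.obj.fst.hom ≫ prod.fst = q.obj.fst.hom ≫ prod.fst := Over.w f
    have h3 : g.left ≫ q'.obj.fst.hom ≫ prod.snd = q.obj.fst.hom ≫ prod.snd := Over.w g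
    let a : q.obj.fst ⟶ q'.obj.fst := Over.homMk f.left (by
      apply Limits.prod.hom_ext
      · rw [Category.assoc]; exact h2
      · rw [Category.assoc, h1]; exact h3)
    have ha1 : (overMap (prod.fst : V ⨯ U ⟶ V)).map a = f := Over.OverMorphism.ext rfl
    have ha2 : (overMap (prod.snd : V ⨯ U ⟶ U)).map a = g := Over.OverMorphism.ext h1
    obtain ⟨h, hh⟩ := exists_hom (H := prodH G' G) a (by
      have e1 : ((prodH G' G).map a).hom.fst = G'.map f := congrArg G'.map ha1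
      have e2 : ((prodH G' G).map a).hom.snd = G.map g := congrArg G.map ha2
      rw [e1, e2]
      exact hfg)
    refine ⟨h, ?_, ?_⟩
    · rw [← ha1, ← hh]; rfl
    · rw [← ha2, ← hh]; rfl
  · intro q q' h h' e1 e2
    apply hom_ext_fst
    apply Over.OverMorphism.ext
    exact congrArg (fun k => k.left) e1
  · intro x y φ hφ
    obtain ⟨X, ⟨⟨⟩⟩, v⟩ := x
    obtain ⟨Y, ⟨⟨⟩⟩, u⟩ := y
    have hXY : X = Y := (G'.w_obj _).symm.trans (hφ.obj_eq.trans (G.w_obj _))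
    subst hXY
    let w₀ : (FibCat.overCat (V ⨯ U)).obj := Over.mk (prod.lift v u)
    let α₀ : (overMap (prod.fst : V ⨯ U ⟶ V)).obj w₀ ≅ Over.mk v := Over.isoMk (Iso.refl _) (by
      show 𝟙 _ ≫ v = prod.lift v u ≫ prod.fst
      simp)
    let β₀ : (overMap (prod.snd : V ⨯ U ⟶ U)).obj w₀ ≅ Over.mk u := Over.isoMk (Iso.refl _) (by
      show 𝟙 _ ≫ u = prod.lift v u ≫ prod.snd
      simp)
    have hα : IsVert (FibCat.overCat V) α₀.hom := isVert_iff.2 ⟨rfl, rfl⟩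
    have hβ : IsVert (FibCat.overCat U) β₀.hom := isVert_iff.2 ⟨rfl, rfl⟩
    let i : ((prodH G' G).obj w₀).obj.fst ≅ G.obj (Over.mk u) := G'.mapIso α₀ ≪≫ φ
    let j : ((prodH G' G).obj w₀).obj.snd ≅ G.obj (Over.mk u) := G.mapIso β₀
    have hi : IsVert 𝒮 i.hom := (hα.map G').comp hφ
    have hj : IsVert 𝒮 j.hom := hβ.map G
    refine ⟨mkQ (prodH G' G) w₀ _ i hi j hj, α₀, β₀, hα, ?_⟩
    rw [cmpIso_hom, mkQ_m₁, mkQ_m₂]
    show G'.map α₀.hom ≫ φ.hom = (i.hom ≫ j.inv) ≫ j.hom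
    rw [Category.assoc, Iso.inv_hom_id, Category.comp_id]
    rfl

theorem forward (hD : FibCat.IsRepresentable1 (D 𝒮)) (U : C) (G : FibCat.overCat U ⥤ᵇ 𝒮) :
    FibCat.IsRepresentable1 G := fun V G' =>
  isRepresentable_of_isEquivOver' (isEquivOver_Phi G' G) (hD _ (prodH G' G))

end Forward

section Backward

variable {U : C} (H : FibCat.overCat U ⥤ᵇ FibCat.fp (t 𝒮) (t 𝒮))

/-- first component -/
abbrev G₁ : FibCat.overCat U ⥤ᵇ 𝒮 := BasedFunctor.comp H (FibCat.fpFst (t 𝒮) (t 𝒮))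

/-- second component -/
abbrev G₂ : FibCat.overCat U ⥤ᵇ 𝒮 := BasedFunctor.comp H (FibCat.fpSnd (t 𝒮) (t 𝒮))

/-- the functor `(C/U) ×_{𝒮 ×_C 𝒮} 𝒮 ⟶ C/U ×_𝒮 C/U` -/
def K : FibCat.fp H (D 𝒮) ⥤ᵇ FibCat.fp (G₁ H) (G₂ H) :=
  FibCat.fpLift (FibCat.fpFst _ _) (FibCat.fpFst _ _) (cmpIso H)

theorem K_iso (q : (FibCat.fp H (D 𝒮)).obj) : ((K H).obj q).obj.iso.hom = (m₁ q).hom ≫ (m₂ q).inv := rfl

theorem isFibGrpd_selfOver : FibCat.IsFibGrpd (FibCat.selfOver C).p := by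
  refine isFibGrpd_of ?_ ?_ ?_
  · intro a V f
    exact ⟨V, f, CategoryTheory.IsHomLift.map (𝟭 C) f⟩
  · intro a b c φ ψ g h
    exact ⟨g, rfl, h⟩
  · intro a b c φ χ χ' h _
    exact h

theorem isRepresentable_backward [HasBinaryProducts C] [HasPullbacks C] (h𝒮 : FibCat.IsFibGrpd 𝒮.p)
    (hG : FibCat.IsRepresentable (FibCat.fp (G₁ H) (G₂ H))) : FibCat.IsRepresentable (FibCat.fp H (D 𝒮)) := by
  have hU := isFibGrpd_overCat U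
  have hSS : FibCat.IsFibGrpd (FibCat.fp (t 𝒮) (t 𝒮)).p :=
    K734.Fib.isFibGrpd_fp _ _ h𝒮 h𝒮 isFibGrpd_selfOver
  have hF : FibCat.IsFibGrpd (FibCat.fp H (D 𝒮)).p := K734.Fib.isFibGrpd_fp H (D 𝒮) hU h𝒮 hSS
  obtain ⟨⟨⟨a₁, a₂, i⟩, hi'⟩, hz⟩ := exists_isTerm_of_isRepresentable hG
  obtain ⟨W, ⟨⟨⟩⟩, f₁⟩ := a₁
  obtain ⟨W', ⟨⟨⟩⟩, f₂⟩ := a₂
  have hi : IsVert 𝒮 i.hom := IsVert.of_lift hi'
  have hW : W = W' := ((G₁ H).w_obj _).symm.trans (hi.obj_eq.trans ((G₂ H).w_obj _))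
  subst hW
  have : HasEqualizers C := hasEqualizers_of_hasPullbacks_and_binary_products
  have hef : equalizer.ι f₁ f₂ ≫ f₁ = equalizer.ι f₁ f₂ ≫ f₂ := equalizer.condition f₁ f₂
  let x : (FibCat.overCat U).obj := Over.mk (equalizer.ι f₁ f₂ ≫ f₁)
  let n₁ : x ⟶ Over.mk f₁ := Over.homMk (equalizer.ι f₁ f₂) rfl
  let n₂ : x ⟶ Over.mk f₂ := Over.homMk (equalizer.ι f₁ f₂) hef.symm
  have l₁ : (FibCat.overCat U).p.IsHomLift (equalizer.ι f₁ f₂) n₁ :=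
    CategoryTheory.IsHomLift.map (FibCat.overCat U).p n₁
  have l₂ : (FibCat.overCat U).p.IsHomLift (equalizer.ι f₁ f₂) n₂ :=
    CategoryTheory.IsHomLift.map (FibCat.overCat U).p n₂
  have l₁' : 𝒮.p.IsHomLift (equalizer.ι f₁ f₂) ((G₁ H).map n₁ ≫ i.hom) :=
    K895.Fib.lift_comp_id (K895.Fib.lift_map (G₁ H) l₁) hi'
  have l₂' : 𝒮.p.IsHomLift (equalizer.ι f₁ f₂) ((G₂ H).map n₂) := K895.Fib.lift_map (G₂ H) l₂
  obtain ⟨φ, hφ, hφ'⟩ := exists_iso_of_lift h𝒮 l₁' l₂'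
  let q : (FibCat.fp H (D 𝒮)).obj := mkQ H x ((G₁ H).obj x) (Iso.refl _) (IsVert.id _) φ.symm hφ.inv
  have hm₁ : m₁ q = Iso.refl _ := mkQ_m₁ ..
  have hm₂ : m₂ q = φ.symm := mkQ_m₂ ..
  refine isRepresentable_of_isTerm (𝒵 := FibCat.fp H (D 𝒮)) (z := q) hF (isTerm_of (fun r => ?_) (fun r g g' => ?_))
  · obtain ⟨m⟩ := hz.exists ((K H).obj r)
    let α : r.obj.fst ⟶ Over.mk f₁ := m.hom.fst
    let β : r.obj.fst ⟶ Over.mk f₂ := m.hom.snd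
    have hw : (G₁ H).map α ≫ i.hom = ((m₁ r).hom ≫ (m₂ r).inv) ≫ (G₂ H).map β := homFp_w m
    have hv : IsVert 𝒮 ((m₁ r).hom ≫ (m₂ r).inv) := (m₁_vert r).comp (m₂_vert r).inv
    have e1 : α.left = β.left := by
      have := left_eq (G' := G₁ H) (G := G₂ H) (x := r.obj.fst) (y := r.obj.fst) (x' := Over.mk f₁)
        (y' := Over.mk f₂) rfl rfl α β hv hi hw
      simpa using this
    have e2 : α.left ≫ f₁ = r.obj.fst.hom := Over.w α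
    have e3 : β.left ≫ f₂ = r.obj.fst.hom := Over.w β
    have e4 : α.left ≫ f₁ = α.left ≫ f₂ := by rw [e2, e1, e3]
    let a : r.obj.fst ⟶ q.obj.fst := Over.homMk (equalizer.lift α.left e4) (by
      show equalizer.lift α.left e4 ≫ equalizer.ι f₁ f₂ ≫ f₁ = r.obj.fst.hom
      rw [← Category.assoc, equalizer.lift_ι]; exact e2)
    have ha₁ : a ≫ n₁ = α := Over.OverMorphism.ext (equalizer.lift_ι _ _)
    have ha₂ : a ≫ n₂ = β := Over.OverMorphism.ext ((equalizer.lift_ι _ _).trans e1)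
    obtain ⟨h, -⟩ := exists_hom (H := H) (q := r) (q' := q) a (by
      rw [hm₁, hm₂]
      show (G₁ H).map a ≫ 𝟙 _ ≫ φ.hom = ((m₁ r).hom ≫ (m₂ r).inv) ≫ (G₂ H).map a
      refine fac_unique h𝒮 ((G₂ H).map n₂) ?_ ?_
      · rw [Functor.map_comp, Functor.map_comp, Functor.map_comp, hφ.map_eq, hv.map_eq, map_eq_base, map_eq_base]
        simp
      · have h5 : (G₂ H).map a ≫ (G₂ H).map n₂ = (G₂ H).map β := by rw [← Functor.map_comp, ha₂]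
        have h6 : (G₁ H).map a ≫ (G₁ H).map n₁ = (G₁ H).map α := by rw [← Functor.map_comp, ha₁]
        rw [Category.id_comp, Category.assoc, hφ', Category.assoc, h5, ← hw, ← Category.assoc, h6])
    exact ⟨h⟩
  · apply hom_ext_fst
    let z' : (FibCat.fp (G₁ H) (G₂ H)).obj := ⟨⟨Over.mk f₁, Over.mk f₂, i⟩, hi'⟩
    let n : (K H).obj q ⟶ z' := mkHomFp n₁ n₂ (by
      rw [K_iso, hm₁, hm₂]
      show (G₁ H).map n₁ ≫ i.hom = (𝟙 _ ≫ φ.hom) ≫ (G₂ H).map n₂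
      rw [Category.id_comp, hφ'])
    have h1 : (K H).map g ≫ n = (K H).map g' ≫ n := hz.eq _ _
    have h2 : g.hom.fst ≫ n₁ = g'.hom.fst ≫ n₁ := congrArg (fun k => k.hom.fst) h1
    have h3 : g.hom.fst.left ≫ equalizer.ι f₁ f₂ = g'.hom.fst.left ≫ equalizer.ι f₁ f₂ :=
      congrArg (fun k => k.left) h2
    apply Over.OverMorphism.ext
    exact (cancel_mono _).1 h3

end Backward

theorem diag_iff [HasBinaryProducts C] [HasPullbacks C] (h𝒮 : FibCat.IsFibGrpd 𝒮.p) :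
    FibCat.IsRepresentable1 (D 𝒮) ↔ ∀ (U : C) (G : FibCat.overCat U ⥤ᵇ 𝒮), FibCat.IsRepresentable1 G :=
  ⟨forward, fun h U H => isRepresentable_backward H h𝒮 (h U (G₂ H) U (G₁ H))⟩

end K160.DiagRep
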