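import Groth.Agent.FibCat.K160.Cart
/-!
K160.FibSet : 2-morphisms between categories fibred in sets are identities.
-/

set_option autoImplicit false
set_option backward.isDefEq.respectTransparency false
set_option backward.isDefEq.respectTransparency.types false

universe v₃ u₃ v₂ u₂ v₁ u₁

open CategoryTheory CategoryTheory.Functor

namespace K160.FibSet

variable {C : Type u₁} [Category.{v₁} C]

theorem basedFunctor_ext {𝒳 : BasedCategory.{v₂, u₂} C} {𝒴 : BasedCategory.{v₃, u₃} C} {F G : 𝒳 ⥤ᵇ 𝒴}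
    (h : F.toFunctor = G.toFunctor) : F = G := by
  cases F; cases G; cases h; rfl

/-- a vertical morphism of a category with discrete fibres is an identity -/
theorem eq_of_vert {𝒳 : Type u₂} [Category.{v₂} 𝒳] {p : 𝒳 ⥤ C} (h : ∀ U : C, IsDiscrete (p.Fiber U))
    {x y : 𝒳} (φ : x ⟶ y) {U : C} (hφ : p.IsHomLift (𝟙 U) φ) : ∃ h : x = y, φ = eqToHom h := by
  have h1 := IsHomLift.domain_eq p (𝟙 U) φ
  have h2 := IsHomLift.codomain_eq p (𝟙 U) φ
  have := h U
  have h3 : (Fiber.mk h1 : p.Fiber U) = Fiber.mk h2 :=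
    IsDiscrete.eq_of_hom (X := Fiber.mk h1) (Y := Fiber.mk h2) ⟨φ, hφ⟩
  have h4 : x = y := congrArg Subtype.val h3
  subst h4
  refine ⟨rfl, ?_⟩
  have h5 : (⟨φ, hφ⟩ : (Fiber.mk h1 : p.Fiber U) ⟶ Fiber.mk h2) = 𝟙 (Fiber.mk h1 : p.Fiber U) :=
    (this.subsingleton (Fiber.mk h1) (Fiber.mk h2)).elim _ _
  exact congrArg Subtype.val h5

theorem eq_of_natTrans {𝒳 : BasedCategory.{v₂, u₂} C} {𝒴 : BasedCategory.{v₃, u₃} C}
    (h𝒴 : ∀ U : C, IsDiscrete (𝒴.p.Fiber U)) {F G : 𝒳 ⥤ᵇ 𝒴} (α : F ⟶ G) :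
    ∃ h : F = G, α = eqToHom h := by
  have key : ∀ x, ∃ h : F.obj x = G.obj x, α.toNatTrans.app x = eqToHom h := fun x =>
    eq_of_vert h𝒴 _ (α.isHomLift' x)
  have h : F = G := by
    apply basedFunctor_ext
    refine CategoryTheory.Functor.ext (fun x => (key x).1) (fun x y f => ?_)
    have := α.toNatTrans.naturality f
    rw [(key x).2, (key y).2] at this
    rw [← Category.assoc, ← this]
    simp
  subst h
  refine ⟨rfl, ?_⟩
  apply BasedNatTrans.homCategory.ext
  ext x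
  exact (key x).2

end K160.FibSet
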