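import Groth.Agent.AlgSt.K734.Fib
/-!
K160.HomEquiv : pre- and postcomposition with an equivalence over `C` are equivalences of the categories of functors
over `C`.
-/

set_option autoImplicit false
set_option backward.isDefEq.respectTransparency false
set_option backward.isDefEq.respectTransparency.types false

universe v₂ u₂ v₁ u₁

open CategoryTheory CategoryTheory.Functor

namespace K160.HomEquiv

open K734.Fib

variable {C : Type u₁} [Category.{v₁} C]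
variable {𝒳 𝒴 𝒵 : BasedCategory.{v₂, u₂} C}

/-- precomposition with mutually quasi-inverse functors -/
def precompUnit (φ : 𝒳 ⟶ 𝒴) (φ' : 𝒴 ⟶ 𝒳) (b : BasedFunctor.comp φ' φ ≅ BasedFunctor.id 𝒴) :
    𝟭 (𝒴 ⟶ 𝒵) ≅ Bicategory.precomp 𝒵 φ ⋙ Bicategory.precomp 𝒵 φ' :=
  NatIso.ofComponents (fun F => (wr b F).symm) (fun {F G} α => hom_ext₂ (fun x => by
    exact (α.toNatTrans.naturality (app b x).inv).symm))

def postcompUnit (φ : 𝒳 ⟶ 𝒴) (φ' : 𝒴 ⟶ 𝒳) (a : BasedFunctor.comp φ φ' ≅ BasedFunctor.id 𝒳) :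
    𝟭 (𝒵 ⟶ 𝒳) ≅ Bicategory.postcomp 𝒵 φ ⋙ Bicategory.postcomp 𝒵 φ' :=
  NatIso.ofComponents (fun F => (wl F a).symm) (fun {F G} α => hom_ext₂ (fun x => by
    exact app_nat_inv a (α.toNatTrans.app x)))

theorem isEquivalence_precomp (φ : 𝒳 ⟶ 𝒴) (hφ : FibCat.IsEquivOver φ) :
    (Bicategory.precomp 𝒵 φ).IsEquivalence := by
  obtain ⟨φ', ⟨a⟩, ⟨b⟩⟩ := hφ
  exact (CategoryTheory.Equivalence.mk (Bicategory.precomp 𝒵 φ) (Bicategory.precomp 𝒵 φ')
    (precompUnit φ φ' b) (precompUnit φ' φ a).symm).isEquivalence_functor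

theorem isEquivalence_postcomp (φ : 𝒳 ⟶ 𝒴) (hφ : FibCat.IsEquivOver φ) :
    (Bicategory.postcomp 𝒵 φ).IsEquivalence := by
  obtain ⟨φ', ⟨a⟩, ⟨b⟩⟩ := hφ
  exact (CategoryTheory.Equivalence.mk (Bicategory.postcomp 𝒵 φ) (Bicategory.postcomp 𝒵 φ')
    (postcompUnit φ φ' a) (postcompUnit φ' φ b).symm).isEquivalence_functor

end K160.HomEquiv
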