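import Groth.Agent.FibCat.K160.Cart
/-!
K160.OverBase : if `p' ⋙ Over.forget U` is fibred (in groupoids), so is `p'`.
-/

set_option autoImplicit false
set_option backward.isDefEq.respectTransparency false
set_option backward.isDefEq.respectTransparency.types false

universe v₃ u₃ v₂ u₂ v₁ u₁

open CategoryTheory CategoryTheory.Functor CategoryTheory.Limits

namespace K160.OverBase

variable {𝒮 : Type u₂} [Category.{v₂} 𝒮] {C : Type u₁} [Category.{v₁} C] {U : C}

theorem isHomLift_over (p' : 𝒮 ⥤ Over U) {x y : 𝒮} {R : Over U} (f : R ⟶ p'.obj x) (φ : y ⟶ x)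
    (h : (p' ⋙ Over.forget U).IsHomLift f.left φ) : p'.IsHomLift f φ := by
  obtain ⟨R0, r, rfl⟩ : ∃ (R0 : C) (r : R0 ⟶ U), R = Over.mk r := ⟨_, R.hom, rfl⟩
  have hd := IsHomLift.domain_eq (p' ⋙ Over.forget U) f.left φ
  change (p'.obj y).left = R0 at hd
  subst hd
  have h1 : f.left = (p' ⋙ Over.forget U).map φ := IsHomLift.eq_of_isHomLift (p' ⋙ Over.forget U) f.left φ
  have h2 : r = (p'.obj y).hom := by
    have h3 := Over.w f
    have h4 := Over.w (p'.map φ)
    change f.left ≫ (p'.obj x).hom = r at h3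
    rw [h1] at h3
    rw [← h3]; exact h4
  subst h2
  have h5 : f = p'.map φ := by
    apply Over.OverMorphism.ext
    exact h1
  rw [h5]
  exact IsHomLift.map p' φ

theorem isFibered (p' : 𝒮 ⥤ Over U) [h : (p' ⋙ Over.forget U).IsFibered] : p'.IsFibered := by
  refine IsFibered.of_exists_isStronglyCartesian fun x R f => ?_
  obtain ⟨y, φ, hφ⟩ := K160.Cart.exists_sc_of_isFibered (p' ⋙ Over.forget U) (x := x) f.left
  have h1 := isHomLift_over p' f φ inferInstance
  exact ⟨y, φ, K160.Cart.isSC_of_lift p' f φ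
    (K160.Cart.isSC_of_comp_faithful p' (Over.forget U) φ (K160.Cart.isSC_self _ f.left φ))⟩

theorem isFibGrpd (p' : 𝒮 ⥤ Over U) (h : FibCat.IsFibGrpd (p' ⋙ Over.forget U)) : FibCat.IsFibGrpd p' where
  exists_lift {x R} f := by
    obtain ⟨y, φ, hφ⟩ := h.exists_lift (x := x) f.left
    exact ⟨y, φ, isHomLift_over p' f φ hφ⟩
  isStronglyCartesian φ := K160.Cart.isSC_of_comp_faithful p' (Over.forget U) φ (h.isStronglyCartesian φ)

end K160.OverBase
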