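import Groth.Agent.FibCat.K160.Cart
import Mathlib.CategoryTheory.Limits.Shapes.Pullback.IsPullback.Basic
/-!
K160.Pullback : strongly cartesian morphisms and pullback squares.
-/

set_option autoImplicit false

universe v₃ u₃ v₂ u₂ v₁ u₁

open CategoryTheory CategoryTheory.Functor CategoryTheory.Limits

namespace K160.Pullback

variable {𝒮 : Type u₂} [Category.{v₂} 𝒮] {C : Type u₁} [Category.{v₁} C]

theorem isPullback_of_isSC (p : 𝒮 ⥤ C) {x y z w : 𝒮} {P : C} {fst : P ⟶ p.obj x} {snd : P ⟶ p.obj z}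
    (φ : x ⟶ y) (ψ : z ⟶ y) (hP : IsPullback fst snd (p.map φ) (p.map ψ))
    [p.IsStronglyCartesian (p.map φ) φ] (a : w ⟶ z) [p.IsStronglyCartesian snd a] :
    ∃ b : w ⟶ x, p.IsHomLift fst b ∧ IsPullback b a φ ψ := by
  obtain rfl := IsHomLift.domain_eq p snd a
  obtain rfl : snd = p.map a := IsHomLift.eq_of_isHomLift p snd a
  have hφ := (K160.Cart.isSC_iff p φ).1 inferInstance
  have ha := (K160.Cart.isSC_iff p a).1 inferInstance
  obtain ⟨b, ⟨hb1, hb2⟩, -⟩ := hφ (a ≫ ψ) fst (by rw [hP.w, Functor.map_comp])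
  subst hb1
  refine ⟨b, inferInstance, ⟨⟨hb2⟩, ⟨PullbackCone.IsLimit.mk _ (fun s => ?_) ?_ ?_ ?_⟩⟩⟩
  · exact (ha s.snd (hP.lift (p.map s.fst) (p.map s.snd) (by
      rw [← Functor.map_comp, ← Functor.map_comp, s.condition])) (hP.lift_snd _ _ _)).choose
  · intro s
    obtain ⟨⟨h1, h2⟩, h3⟩ := (ha s.snd (hP.lift (p.map s.fst) (p.map s.snd) (by
      rw [← Functor.map_comp, ← Functor.map_comp, s.condition])) (hP.lift_snd _ _ _)).choose_spec
    refine (hφ (s.fst ≫ φ) (p.map s.fst) (Functor.map_comp _ _ _).symm).unique ⟨?_, ?_⟩ ⟨rfl, rfl⟩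
    · rw [Functor.map_comp, h1, hP.lift_fst]
    · rw [Category.assoc, hb2, ← Category.assoc, h2, s.condition]
  · intro s
    exact (ha s.snd (hP.lift (p.map s.fst) (p.map s.snd) (by
      rw [← Functor.map_comp, ← Functor.map_comp, s.condition])) (hP.lift_snd _ _ _)).choose_spec.1.2
  · intro s m hm1 hm2
    refine (ha s.snd (hP.lift (p.map s.fst) (p.map s.snd) (by
      rw [← Functor.map_comp, ← Functor.map_comp, s.condition])) (hP.lift_snd _ _ _)).choose_spec.2 m
      ⟨?_, hm2⟩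
    apply hP.hom_ext
    · rw [hP.lift_fst, ← Functor.map_comp, hm1]
    · rw [hP.lift_snd, ← Functor.map_comp, hm2]

end K160.Pullback
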