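import Groth.Agent.AlgSt.K734.Yon2
/-!
K160.RepUnique : the object representing a category fibred in groupoids is unique up to isomorphism.
-/

set_option autoImplicit false
set_option backward.isDefEq.respectTransparency false
set_option backward.isDefEq.respectTransparency.types false

universe v₂ u₂ v₁ u₁

open CategoryTheory CategoryTheory.Functor

namespace K160.RepUnique

open K734.Fib

variable {C : Type u₁} [Category.{v₁} C]

/-- `overMap` and composition -/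
def overMapComp {W V U : C} (g : W ⟶ V) (f : V ⟶ U) :
    BasedFunctor.comp (overMap g) (overMap f) ≅ overMap (g ≫ f) :=
  mkIso (fun a => Over.isoMk (Iso.refl _) (by
    show 𝟙 _ ≫ a.hom ≫ (g ≫ f) = (a.hom ≫ g) ≫ f
    simp)) (fun a => isVert_iff.2 ⟨rfl, rfl⟩) (fun {a b} φ => Over.OverMorphism.ext (by
      show φ.left ≫ 𝟙 _ = 𝟙 _ ≫ φ.left
      simp))

/-- `overMap` of an identity -/
def overMapId (U : C) : overMap (𝟙 U) ≅ BasedFunctor.id (FibCat.overCat U) :=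
  mkIso (fun a => Over.isoMk (Iso.refl _) (by
    show 𝟙 _ ≫ a.hom = a.hom ≫ 𝟙 _
    simp)) (fun a => isVert_iff.2 ⟨rfl, rfl⟩) (fun {a b} φ => Over.OverMorphism.ext (by
      show φ.left ≫ 𝟙 _ = 𝟙 _ ≫ φ.left
      simp))

theorem comp_eq_id {V U : C} (F : FibCat.overCat V ⥤ᵇ FibCat.overCat U)
    (G : FibCat.overCat U ⥤ᵇ FibCat.overCat V)
    (e : BasedFunctor.comp F G ≅ BasedFunctor.id _) : overFun F ≫ overFun G = 𝟙 V := by
  obtain ⟨a⟩ := nonempty_iso_overMap F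
  obtain ⟨b⟩ := nonempty_iso_overMap G
  refine eq_of_overMap_iso (?_ : overMap (overFun F ≫ overFun G) ≅ overMap (𝟙 V))
  exact (overMapComp _ _).symm ≪≫ wr a.symm _ ≪≫ wl F b.symm ≪≫ e ≪≫ (overMapId V).symm

theorem unique_rep {𝒮 : BasedCategory.{v₂, u₂} C} {X X' : C} (j : 𝒮 ⥤ᵇ FibCat.overCat X)
    (j' : 𝒮 ⥤ᵇ FibCat.overCat X') (hj : FibCat.IsEquivOver j) (hj' : FibCat.IsEquivOver j') :
    ∃ e : X' ≅ X, Nonempty (BasedFunctor.comp j' (overMap e.hom) ≅ j) := by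
  obtain ⟨k, ⟨a⟩, ⟨b⟩⟩ := hj
  obtain ⟨k', ⟨a'⟩, ⟨b'⟩⟩ := hj'
  -- k' ⋙ j : overCat X' ⥤ overCat X
  let F : FibCat.overCat X' ⥤ᵇ FibCat.overCat X := BasedFunctor.comp k' j
  let G : FibCat.overCat X ⥤ᵇ FibCat.overCat X' := BasedFunctor.comp k j'
  have hFG : BasedFunctor.comp F G ≅ BasedFunctor.id _ :=
    wl k' (wr a j') ≪≫ b'
  have hGF : BasedFunctor.comp G F ≅ BasedFunctor.id _ :=
    wl k (wr a' j) ≪≫ b
  obtain ⟨f⟩ := nonempty_iso_overMap F
  refine ⟨⟨overFun F, overFun G, comp_eq_id F G hFG, comp_eq_id G F hGF⟩, ⟨?_⟩⟩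
  exact wl j' f.symm ≪≫ wr a' j

end K160.RepUnique
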