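import Groth.Agent.FibCat.K160.Cart
import Groth.Agent.AlgSt.K734.Fib
/-!
K160.Setoid : functors between categories fibred in setoids.
-/

set_option autoImplicit false
set_option backward.isDefEq.respectTransparency false
set_option backward.isDefEq.respectTransparency.types false

universe v₃ u₃ v₂ u₂ v₁ u₁

open CategoryTheory CategoryTheory.Functor

namespace K160.Setoid

variable {C : Type u₁} [Category.{v₁} C]

/-- parallel vertical morphisms agree in a category with thin fibres -/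
theorem eq_of_thin {𝒳 : Type u₂} [Category.{v₂} 𝒳] {p : 𝒳 ⥤ C} (h : ∀ U : C, Quiver.IsThin (p.Fiber U))
    {x y : 𝒳} (φ ψ : x ⟶ y) {U : C} (hφ : p.IsHomLift (𝟙 U) φ) (hψ : p.IsHomLift (𝟙 U) ψ) : φ = ψ := by
  have h1 := IsHomLift.domain_eq p (𝟙 U) φ
  have h2 := IsHomLift.codomain_eq p (𝟙 U) φ
  have := (h U (Fiber.mk h1) (Fiber.mk h2)).elim ⟨φ, hφ⟩ ⟨ψ, hψ⟩
  exact congrArg Subtype.val this

/-- parallel morphisms over the same morphism agree in a category fibred in setoids -/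
theorem eq_of_lift {𝒳 : Type u₂} [Category.{v₂} 𝒳] {p : 𝒳 ⥤ C} (h : FibCat.IsFibSetoid p)
    {x y : 𝒳} (φ ψ : x ⟶ y) (e : p.map φ = p.map ψ) : φ = ψ := by
  obtain ⟨χ, ⟨h1, h2⟩, -⟩ := (K160.Cart.isSC_iff p ψ).1 (h.1.isStronglyCartesian ψ) φ (𝟙 _) (by simp [e])
  have h3 : χ = 𝟙 x := by
    refine eq_of_thin h.2 (U := p.obj x) _ _ ?_ ?_
    · rw [← h1]; infer_instance
    · infer_instance
  rw [← h2, h3, Category.id_comp]

theorem unique_iso {𝒳 : BasedCategory.{v₂, u₂} C} {𝒴 : BasedCategory.{v₃, u₃} C}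
    (h𝒴 : FibCat.IsFibSetoid 𝒴.p) (f g : 𝒳 ⥤ᵇ 𝒴)
    (hfg : ∀ x : 𝒳.obj, ∃ e : f.obj x ≅ g.obj x, K734.Fib.IsVert 𝒴 e.hom) :
    Nonempty (Unique (f ≅ g)) := by
  choose c hc using hfg
  refine ⟨⟨⟨K734.Fib.mkIso c hc ?_⟩, ?_⟩⟩
  · intro x y φ
    refine eq_of_lift h𝒴 _ _ ?_
    rw [Functor.map_comp, Functor.map_comp, (hc y).map_eq, (hc x).map_eq]
    have h1 := Functor.congr_hom f.w φ
    have h2 := Functor.congr_hom g.w φ
    simp only [Functor.comp_map] at h1 h2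
    rw [h1, h2]
    simp
  · intro e
    apply K734.Fib.iso_ext₂
    intro x
    refine eq_of_thin h𝒴.2 (U := 𝒳.p.obj x) _ _ ?_ ?_
    · exact (K734.Fib.app_vert e x).lift (f.w_obj x)
    · exact (K734.Fib.app_vert _ x).lift (f.w_obj x)

end K160.Setoid
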