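import Groth.Agent.FibCat.K160.Cart
import Groth.Agent.AlgSt.K734.Fib
import Mathlib.CategoryTheory.FiberedCategory.Grothendieck
import Mathlib.CategoryTheory.Bicategory.Functor.LocallyDiscrete
/-!
K160.Split : every fibred category is equivalent over the base to a split one.

* `SObj p U` : formal inverse images `(x, f : U ⟶ p x)`, morphisms the vertical morphisms between the chosen inverse
  images; `res g` : strict restriction along `g : V ⟶ U`.
* `splitFunctor p : Cᵒᵖ ⥤ Cat`.
* `P : ∫ᶜ (splitFunctor p) ⥤ 𝒳`, fully faithful, essentially surjective over identities.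
-/

set_option autoImplicit false
set_option backward.isDefEq.respectTransparency false
set_option backward.isDefEq.respectTransparency.types false
set_option backward.defeqAttrib.useBackward true

universe v₃ u₃ v₂ u₂ v₁ u₁

open CategoryTheory CategoryTheory.Functor Opposite

namespace K160.Split

variable {𝒳 : Type u₂} [Category.{v₂} 𝒳] {C : Type u₁} [Category.{v₁} C]

/-- formal inverse images over `U` of objects of `𝒳` -/
structure SObj (p : 𝒳 ⥤ C) (U : C) where
  /-- the object -/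
  x : 𝒳
  /-- the morphism along which to take the inverse image -/
  f : U ⟶ p.obj x

section

variable {p : 𝒳 ⥤ C}

/-- strict restriction -/
def res {U V : C} (g : V ⟶ U) (a : SObj p U) : SObj p V := ⟨a.x, g ≫ a.f⟩

theorem res_id {U : C} (a : SObj p U) : res (𝟙 U) a = a := by
  cases a; simp [res]

theorem res_comp {U V W : C} (h : W ⟶ V) (g : V ⟶ U) (a : SObj p U) :
    res (h ≫ g) a = res h (res g a) := by
  cases a; simp [res]

variable [p.IsFibered]

/-- the chosen inverse image -/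
noncomputable def pb {U : C} (a : SObj p U) : 𝒳 := IsPreFibered.pullbackObj (p := p) rfl a.f

/-- the chosen cartesian morphism -/
noncomputable def lift {U : C} (a : SObj p U) : pb a ⟶ a.x := IsPreFibered.pullbackMap (p := p) rfl a.f

instance isCartesian_lift {U : C} (a : SObj p U) : p.IsCartesian a.f (lift a) :=
  IsPreFibered.pullbackMap.IsCartesian (p := p) rfl a.f

theorem isSC_lift {U : C} (a : SObj p U) : p.IsStronglyCartesian a.f (lift a) := inferInstance

theorem pb_proj {U : C} (a : SObj p U) : p.obj (pb a) = U := IsHomLift.domain_eq p a.f (lift a)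

noncomputable instance {U : C} : Category (SObj p U) where
  Hom a b := {φ : pb a ⟶ pb b // p.IsHomLift (𝟙 U) φ}
  id a := ⟨𝟙 _, IsHomLift.id (pb_proj a)⟩
  comp φ ψ := ⟨φ.1 ≫ ψ.1, by have := φ.2; have := ψ.2; infer_instance⟩

theorem comp_val {U : C} {a b c : SObj p U} (φ : a ⟶ b) (ψ : b ⟶ c) : (φ ≫ ψ).1 = φ.1 ≫ ψ.1 := rfl

theorem id_val {U : C} (a : SObj p U) : (𝟙 a : a ⟶ a).1 = 𝟙 (pb a) := rfl

theorem hom_ext' {U : C} {a b : SObj p U} {φ ψ : a ⟶ b} (h : φ.1 ≫ lift b = ψ.1 ≫ lift b) : φ = ψ := by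
  have h1 := φ.2
  have h2 := ψ.2
  exact Subtype.ext (IsCartesian.ext p b.f (lift b) _ _ h)

/-- the transition morphism -/
noncomputable def t {U V : C} (g : V ⟶ U) (a : SObj p U) : pb (res g a) ⟶ pb a :=
  have : p.IsHomLift (g ≫ a.f) (lift (res g a)) := (isCartesian_lift (res g a)).toIsHomLift
  IsStronglyCartesian.map p a.f (lift a) (g := g) rfl (lift (res g a))

instance t_isHomLift {U V : C} (g : V ⟶ U) (a : SObj p U) : p.IsHomLift g (t g a) :=
  have : p.IsHomLift (g ≫ a.f) (lift (res g a)) := (isCartesian_lift (res g a)).toIsHomLift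
  IsStronglyCartesian.map_isHomLift p a.f (lift a) (g := g) rfl (lift (res g a))

theorem t_fac {U V : C} (g : V ⟶ U) (a : SObj p U) : t g a ≫ lift a = lift (res g a) :=
  have : p.IsHomLift (g ≫ a.f) (lift (res g a)) := (isCartesian_lift (res g a)).toIsHomLift
  IsStronglyCartesian.fac p a.f (lift a) (g := g) rfl (lift (res g a))

/-- `t g a` is determined by `t_fac` -/
theorem eq_of_fac {U V : C} {g : V ⟶ U} {a : SObj p U} {z : 𝒳} {χ χ' : z ⟶ pb a} (h : p.IsHomLift g χ)
    (h' : p.IsHomLift g χ') (e : χ ≫ lift a = χ' ≫ lift a) : χ = χ' :=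
  IsStronglyCartesian.ext p a.f (lift a) g e

instance isSC_t {U V : C} (g : V ⟶ U) (a : SObj p U) : p.IsStronglyCartesian g (t g a) := by
  have h1 : p.IsStronglyCartesian (g ≫ a.f) (t g a ≫ lift a) := by
    rw [t_fac]; exact isSC_lift (res g a)
  exact IsStronglyCartesian.of_comp p (g := a.f) (ψ := lift a)

theorem lift_t_comp {U V : C} (g : V ⟶ U) {a b : SObj p U} (φ : a ⟶ b) :
    p.IsHomLift g (t g a ≫ φ.1) := by
  have := φ.2
  infer_instance

/-- restriction of morphisms -/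
noncomputable def resMap {U V : C} (g : V ⟶ U) {a b : SObj p U} (φ : a ⟶ b) : res g a ⟶ res g b :=
  have := lift_t_comp g φ
  ⟨IsCartesian.map p g (t g b) (t g a ≫ φ.1), IsCartesian.map_isHomLift p g (t g b) (t g a ≫ φ.1)⟩

theorem resMap_fac {U V : C} (g : V ⟶ U) {a b : SObj p U} (φ : a ⟶ b) :
    (resMap g φ).1 ≫ t g b = t g a ≫ φ.1 :=
  have := lift_t_comp g φ
  IsCartesian.fac p g (t g b) (t g a ≫ φ.1)

theorem resMap_lift {U V : C} (g : V ⟶ U) {a b : SObj p U} (φ : a ⟶ b) :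
    (resMap g φ).1 ≫ lift (res g b) = t g a ≫ φ.1 ≫ lift b := by
  rw [← t_fac, ← Category.assoc, resMap_fac, Category.assoc]

/-- the restriction functor -/
noncomputable def resF {U V : C} (g : V ⟶ U) : SObj p U ⥤ SObj p V where
  obj a := res g a
  map φ := resMap g φ
  map_id a := hom_ext' (by rw [resMap_lift, id_val, id_val, Category.id_comp, Category.id_comp, t_fac])
  map_comp {a b c} φ ψ := hom_ext' (by
    rw [resMap_lift, comp_val, comp_val, Category.assoc, Category.assoc, resMap_lift,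
      ← Category.assoc (resMap g φ).1, resMap_fac, Category.assoc])

theorem eqToHom_lift {U : C} {x : 𝒳} {f f' : U ⟶ p.obj x} (h : (⟨x, f⟩ : SObj p U) = ⟨x, f'⟩) :
    (eqToHom h).1 ≫ lift (⟨x, f'⟩ : SObj p U) = lift ⟨x, f⟩ := by
  have h1 : f = f' := by injection h
  subst h1
  exact Category.id_comp _

theorem t_id {U : C} (a : SObj p U) (h : res (𝟙 U) a = a) : t (𝟙 U) a = (eqToHom h).1 := by
  obtain ⟨x, f⟩ := a
  refine eq_of_fac (g := 𝟙 U) inferInstance (eqToHom h).2 ?_
  rw [t_fac]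
  exact (eqToHom_lift h).symm

theorem t_comp {U V W : C} (h : W ⟶ V) (g : V ⟶ U) (a : SObj p U)
    (e : res h (res g a) = res (h ≫ g) a) :
    (eqToHom e).1 ≫ t (h ≫ g) a = t h (res g a) ≫ t g a := by
  obtain ⟨x, f⟩ := a
  have h1 := (eqToHom e).2
  refine eq_of_fac (g := h ≫ g) ?_ inferInstance ?_
  · exact IsHomLift.comp_lift_id_left p (h ≫ g) (t (h ≫ g) ⟨x, f⟩) (eqToHom e).1
  · rw [Category.assoc, Category.assoc, t_fac, t_fac, t_fac]
    exact eqToHom_lift e

theorem t_comp' {U V W : C} (h : W ⟶ V) (g : V ⟶ U) (a : SObj p U)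
    (e : res (h ≫ g) a = res h (res g a)) :
    t (h ≫ g) a = (eqToHom e).1 ≫ t h (res g a) ≫ t g a := by
  rw [← t_comp h g a e.symm, ← Category.assoc, ← comp_val, eqToHom_trans, eqToHom_refl, id_val,
    Category.id_comp]

theorem resF_id {U : C} : resF (𝟙 U) = 𝟭 (SObj p U) := by
  refine CategoryTheory.Functor.ext (fun a => res_id a) (fun a b φ => ?_)
  apply hom_ext'
  have h1 : ((resF (𝟙 U)).map φ).1 ≫ lift ((resF (𝟙 U)).obj b) = t (𝟙 U) a ≫ φ.1 ≫ lift b :=
    resMap_lift (𝟙 U) φ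
  rw [h1, t_id a (res_id a), comp_val, comp_val, Category.assoc, Category.assoc]
  congr 2
  exact (eqToHom_lift (p := p) (res_id b).symm).symm

theorem resF_comp {U V W : C} (h : W ⟶ V) (g : V ⟶ U) :
    (resF (h ≫ g) : SObj p U ⥤ SObj p W) = resF g ⋙ resF h := by
  refine CategoryTheory.Functor.ext (fun a => res_comp h g a) (fun a b φ => ?_)
  apply hom_ext'
  have h1 : ((resF (h ≫ g)).map φ).1 ≫ lift ((resF (h ≫ g)).obj b) = t (h ≫ g) a ≫ φ.1 ≫ lift b :=
    resMap_lift (h ≫ g) φ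
  rw [h1, t_comp' h g a (res_comp h g a), comp_val, comp_val, Category.assoc, Category.assoc, Category.assoc,
    Category.assoc]
  congr 1
  have h2 : ((resF g ⋙ resF h).map φ).1 ≫ lift (res h (res g b)) =
      t h (res g a) ≫ (resMap g φ).1 ≫ lift (res g b) := resMap_lift h (resMap g φ)
  have h3 : (eqToHom (res_comp h g b).symm).1 ≫ lift (res (h ≫ g) b) = lift (res h (res g b)) :=
    eqToHom_lift (res_comp h g b).symm
  have h4 : ((resF g ⋙ resF h).map φ).1 ≫ (eqToHom (res_comp h g b).symm).1 ≫ lift (res (h ≫ g) b) =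
    ((resF g ⋙ resF h).map φ).1 ≫ lift (res h (res g b)) := by rw [h3]
  refine Eq.trans ?_ h4.symm
  rw [h2, resMap_lift]

theorem comp_aux {U V W : C} (h : W ⟶ V) (g : V ⟶ U) {a : SObj p W} {b : SObj p V} {c : SObj p U}
    (φ : a ⟶ res h b) (ψ : b ⟶ res g c) (e : res h (res g c) = res (h ≫ g) c) :
    (φ ≫ resMap h ψ ≫ eqToHom e).1 ≫ t (h ≫ g) c = (φ.1 ≫ t h b) ≫ ψ.1 ≫ t g c := by
  rw [comp_val, comp_val, Category.assoc, Category.assoc, t_comp, ← Category.assoc (resMap _ _).1,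
    resMap_fac, Category.assoc, Category.assoc]

end

variable (p : 𝒳 ⥤ C) [p.IsFibered]

/-- the strict functor `Cᵒᵖ ⥤ Cat` splitting `p` -/
noncomputable def splitFunctor : Cᵒᵖ ⥤ Cat.{v₂, max u₂ v₁} where
  obj U := Cat.of (SObj p U.unop)
  map g := (resF g.unop).toCatHom
  map_id U := by
    exact congrArg Functor.toCatHom resF_id
  map_comp g h := by
    exact congrArg Functor.toCatHom (resF_comp h.unop g.unop)

open Pseudofunctor Pseudofunctor.CoGrothendieck

/-- the comparison functor to `𝒳` -/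
noncomputable def P : CoGrothendieck (splitFunctor p).toPseudofunctor' ⥤ 𝒳 where
  obj z := pb (z.fiber : SObj p z.base)
  map {z w} φ := (φ.fiber : (z.fiber : SObj p z.base) ⟶ res φ.base (w.fiber : SObj p w.base)).1 ≫
    t φ.base (w.fiber : SObj p w.base)
  map_id z := by
    have h1 : (𝟙 z : z ⟶ z).fiber = eqToHom (res_id (z.fiber : SObj p z.base)).symm := by
      simp
    have h2 : ((𝟙 z : z ⟶ z).fiber : (z.fiber : SObj p z.base) ⟶ res (𝟙 z.base) (z.fiber : SObj p z.base)).1 ≫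
        t (𝟙 z.base) (z.fiber : SObj p z.base) = 𝟙 _ := by
      rw [h1, t_id _ (res_id _), ← comp_val, eqToHom_trans, eqToHom_refl]; rfl
    exact h2
  map_comp {z w y} φ ψ := by
    have e := (res_comp φ.base ψ.base (y.fiber : SObj p y.base)).symm
    have h1 : (φ ≫ ψ).fiber = (φ.fiber : (z.fiber : SObj p z.base) ⟶ res φ.base (w.fiber : SObj p w.base)) ≫
      resMap φ.base (ψ.fiber : (w.fiber : SObj p w.base) ⟶ res ψ.base (y.fiber : SObj p y.base)) ≫
        eqToHom e := by
      simp; rfl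
    have h2 : ((φ ≫ ψ).fiber : (z.fiber : SObj p z.base) ⟶ res (φ.base ≫ ψ.base) (y.fiber : SObj p y.base)).1 ≫
        t (φ.base ≫ ψ.base) (y.fiber : SObj p y.base) =
      ((φ.fiber : (z.fiber : SObj p z.base) ⟶ res φ.base (w.fiber : SObj p w.base)).1 ≫
        t φ.base (w.fiber : SObj p w.base)) ≫
      (ψ.fiber : (w.fiber : SObj p w.base) ⟶ res ψ.base (y.fiber : SObj p y.base)).1 ≫
        t ψ.base (y.fiber : SObj p y.base) := by
      rw [h1]
      exact comp_aux φ.base ψ.base _ _ e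
    exact h2

theorem P_map {z w : CoGrothendieck (splitFunctor p).toPseudofunctor'} (φ : z ⟶ w) :
    (P p).map φ = (φ.fiber : (z.fiber : SObj p z.base) ⟶ res φ.base (w.fiber : SObj p w.base)).1 ≫
    t φ.base (w.fiber : SObj p w.base) := rfl

theorem P_lift {z w : CoGrothendieck (splitFunctor p).toPseudofunctor'} (φ : z ⟶ w) :
    p.IsHomLift φ.base ((P p).map φ) := by
  rw [P_map]
  have h1 := (φ.fiber : (z.fiber : SObj p z.base) ⟶ res φ.base (w.fiber : SObj p w.base)).2
  exact IsHomLift.comp_lift_id_left p φ.base _ _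

theorem P_w : P p ⋙ p = forget (splitFunctor p).toPseudofunctor' :=
  CategoryTheory.Functor.ext (fun z => pb_proj (z.fiber : SObj p z.base)) (fun z w φ => by
    have := P_lift p φ
    exact IsHomLift.fac' p φ.base ((P p).map φ))

theorem P_full : (P p).Full where
  map_surjective {z w} ψ := by
    have hz := pb_proj (z.fiber : SObj p z.base)
    have hw := pb_proj (w.fiber : SObj p w.base)
    let g : z.base ⟶ w.base := eqToHom hz.symm ≫ p.map ψ ≫ eqToHom hw
    have hψ : p.IsHomLift g ψ := IsHomLift.of_fac p g ψ hz hw rfl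
    let χ := IsCartesian.map p g (t g (w.fiber : SObj p w.base)) ψ
    have hχ : p.IsHomLift (𝟙 z.base) χ := IsCartesian.map_isHomLift p g (t g (w.fiber : SObj p w.base)) ψ
    let m : (z.fiber : SObj p z.base) ⟶ res g (w.fiber : SObj p w.base) := ⟨χ, hχ⟩
    exact ⟨⟨g, m⟩, IsCartesian.fac p g (t g (w.fiber : SObj p w.base)) ψ⟩

theorem P_faithful : (P p).Faithful where
  map_injective {z w} φ ψ h := by
    have h1 := P_lift p φ
    have h2 := P_lift p ψ
    have h3 : φ.base = ψ.base := by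
      rw [h] at h1
      exact (IsHomLift.fac p φ.base ((P p).map ψ)).trans (IsHomLift.fac p ψ.base ((P p).map ψ)).symm
    obtain ⟨g, φ'⟩ := φ
    obtain ⟨g', ψ'⟩ := ψ
    dsimp only at h3
    subst h3
    have h4 : (φ' : (z.fiber : SObj p z.base) ⟶ res g (w.fiber : SObj p w.base)).1 ≫ t g (w.fiber : SObj p w.base) =
      (ψ' : (z.fiber : SObj p z.base) ⟶ res g (w.fiber : SObj p w.base)).1 ≫ t g (w.fiber : SObj p w.base) := h
    have h5 : (φ' : (z.fiber : SObj p z.base) ⟶ res g (w.fiber : SObj p w.base)) = ψ' := by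
      have i1 := (φ' : (z.fiber : SObj p z.base) ⟶ res g (w.fiber : SObj p w.base)).2
      have i2 := (ψ' : (z.fiber : SObj p z.base) ⟶ res g (w.fiber : SObj p w.base)).2
      exact Subtype.ext (IsCartesian.ext p g (t g (w.fiber : SObj p w.base)) _ _ h4)
    exact congrArg (fun k => (⟨g, k⟩ : z ⟶ w)) h5

theorem P_essSurj (y : 𝒳) : ∃ (z : CoGrothendieck (splitFunctor p).toPseudofunctor') (e : (P p).obj z ≅ y),
    p.IsHomLift (𝟙 (p.obj y)) e.hom := by
  let a : SObj p (p.obj y) := ⟨y, 𝟙 _⟩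
  have h1 : p.IsStronglyCartesian (𝟙 (p.obj y)) (lift a) := isSC_lift a
  have h2 := IsStronglyCartesian.isIso_of_base_isIso p (𝟙 (p.obj y)) (lift a)
  exact ⟨⟨p.obj y, a⟩, asIso (lift a), inferInstanceAs (p.IsHomLift (𝟙 (p.obj y)) (lift a))⟩

theorem isGroupoid_split (hp : FibCat.IsFibGrpd p) (U : Cᵒᵖ) : IsGroupoid ((splitFunctor p).obj U) where
  all_isIso {a b} φ := by
    have h1 := (φ : (a : SObj p U.unop) ⟶ b).2
    have h2 : p.IsStronglyCartesian (𝟙 U.unop) (φ : (a : SObj p U.unop) ⟶ b).1 :=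
      K160.Cart.isSC_of_isFibGrpd hp _ _
    have h3 := IsStronglyCartesian.isIso_of_base_isIso p (𝟙 U.unop) (φ : (a : SObj p U.unop) ⟶ b).1
    let ψ : (b : SObj p U.unop) ⟶ a := ⟨inv (φ : (a : SObj p U.unop) ⟶ b).1, inferInstance⟩
    exact ⟨ψ, Subtype.ext (IsIso.hom_inv_id (φ : (a : SObj p U.unop) ⟶ b).1),
      Subtype.ext (IsIso.inv_hom_id (φ : (a : SObj p U.unop) ⟶ b).1)⟩

/-- the splitting theorem -/
theorem exists_equivOver (𝒴 : BasedCategory.{v₂, u₂} C) [𝒴.p.IsFibered] :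
    ∃ (E : 𝒴 ⥤ᵇ BasedCategory.ofFunctor (CoGrothendieck.forget (splitFunctor 𝒴.p).toPseudofunctor')),
      FibCat.IsEquivOver E := by
  let Q : BasedCategory.ofFunctor (CoGrothendieck.forget (splitFunctor 𝒴.p).toPseudofunctor') ⥤ᵇ 𝒴 :=
    { toFunctor := P 𝒴.p
      w := P_w 𝒴.p }
  have hQ : FibCat.IsEquivOver Q := by
    refine K734.Fib.isEquivOver_of (P_full 𝒴.p) (P_faithful 𝒴.p) (fun y => ?_)
    obtain ⟨z, e, he⟩ := P_essSurj 𝒴.p y
    exact ⟨z, e, K734.Fib.IsVert.of_lift he⟩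
  obtain ⟨E, hE, -, -⟩ := K734.Fib.exists_inverse hQ
  exact ⟨E, hE⟩

end K160.Split
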