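import Groth.Agent.AlgSt.K734.Yon2
/-!
K160.Terminal : a category fibred in groupoids is representable iff it has a terminal object.
-/

set_option autoImplicit false
set_option backward.isDefEq.respectTransparency false
set_option backward.isDefEq.respectTransparency.types false

universe v₃ u₃ v₂ u₂ v₁ u₁

open CategoryTheory CategoryTheory.Functor

namespace K160.Terminal

open K734.Fib

variable {C : Type u₁} [Category.{v₁} C]
variable {𝒵 : BasedCategory.{v₂, u₂} C} {𝒲 : BasedCategory.{v₃, u₃} C}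

theorem isRepresentable_of_isEquivOver {F : 𝒵 ⥤ᵇ 𝒲} (hF : FibCat.IsEquivOver F)
    (h : FibCat.IsRepresentable 𝒲) : FibCat.IsRepresentable 𝒵 := by
  obtain ⟨U, G, hG⟩ := h
  exact ⟨U, BasedFunctor.comp F G, isEquivOver_comp hF hG⟩

theorem isRepresentable_of_isEquivOver' {F : 𝒵 ⥤ᵇ 𝒲} (hF : FibCat.IsEquivOver F)
    (h : FibCat.IsRepresentable 𝒵) : FibCat.IsRepresentable 𝒲 := by
  obtain ⟨G, hG, -, -⟩ := exists_inverse hF
  exact isRepresentable_of_isEquivOver hG h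

theorem isRepresentable_iff_of_isEquivOver {F : 𝒵 ⥤ᵇ 𝒲} (hF : FibCat.IsEquivOver F) :
    FibCat.IsRepresentable 𝒵 ↔ FibCat.IsRepresentable 𝒲 :=
  ⟨isRepresentable_of_isEquivOver' hF, isRepresentable_of_isEquivOver hF⟩

theorem isFibGrpd_of_isRepresentable (h : FibCat.IsRepresentable 𝒵) : FibCat.IsFibGrpd 𝒵.p := by
  obtain ⟨U, G, hG⟩ := h
  exact isFibGrpd_of_isEquivOver hG (isFibGrpd_overCat U)

/-- a terminal object -/
def IsTerm (z : 𝒵.obj) : Prop := ∀ w : 𝒵.obj, ∃! _φ : w ⟶ z, True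

theorem IsTerm.exists {z : 𝒵.obj} (h : IsTerm z) (w : 𝒵.obj) : Nonempty (w ⟶ z) :=
  ⟨(h w).choose⟩

theorem IsTerm.eq {z : 𝒵.obj} (h : IsTerm z) {w : 𝒵.obj} (φ ψ : w ⟶ z) : φ = ψ :=
  (h w).unique trivial trivial

theorem isTerm_of {z : 𝒵.obj} (h : ∀ w, Nonempty (w ⟶ z)) (h' : ∀ w (φ ψ : w ⟶ z), φ = ψ) : IsTerm z :=
  fun w => ⟨(h w).some, trivial, fun ψ _ => h' w ψ _⟩

theorem isTerm_one (U : C) : IsTerm (𝒵 := FibCat.overCat U) (one U) := by
  refine isTerm_of (fun w => ⟨toOne w⟩) (fun w φ ψ => Over.OverMorphism.ext ?_)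
  have h1 : φ.left = w.hom := (Category.comp_id _).symm.trans (Over.w φ)
  have h2 : ψ.left = w.hom := (Category.comp_id _).symm.trans (Over.w ψ)
  exact h1.trans h2.symm

theorem exists_isTerm_of_isRepresentable (h : FibCat.IsRepresentable 𝒵) : ∃ z : 𝒵.obj, IsTerm z := by
  obtain ⟨U, G, hG⟩ := h
  have h1 := full_of hG
  have h2 := faithful_of hG
  obtain ⟨z, e, he⟩ := essSurjOver_of hG (one U)
  refine ⟨z, isTerm_of (fun w => ⟨G.toFunctor.preimage (toOne (G.obj w) ≫ e.inv)⟩) (fun w φ ψ => ?_)⟩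
  apply G.toFunctor.map_injective
  rw [← cancel_mono e.hom]
  exact (isTerm_one U).eq _ _

/-- the functor to the slice over the image of a terminal object -/
noncomputable def toOver {z : 𝒵.obj} (hz : IsTerm z) : 𝒵 ⥤ᵇ FibCat.overCat (𝒵.p.obj z) where
  toFunctor :=
    { obj := fun w => Over.mk (𝒵.p.map (hz.exists w).some)
      map := fun {w w'} φ => Over.homMk (𝒵.p.map φ) (by
        show 𝒵.p.map φ ≫ 𝒵.p.map _ = 𝒵.p.map _
        rw [← Functor.map_comp, hz.eq (φ ≫ _) (hz.exists w).some])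
      map_id := fun w => Over.OverMorphism.ext (𝒵.p.map_id w)
      map_comp := fun φ ψ => Over.OverMorphism.ext (𝒵.p.map_comp φ ψ) }
  w := rfl

theorem isEquivOver_toOver (h : FibCat.IsFibGrpd 𝒵.p) {z : 𝒵.obj} (hz : IsTerm z) :
    FibCat.IsEquivOver (toOver hz) := by
  refine isEquivOver_of ⟨fun {w w'} g => ?_⟩ ⟨fun {w w'} φ ψ e => ?_⟩ (fun y => ?_)
  · have hg : g.left ≫ 𝒵.p.map (hz.exists w').some = 𝒵.p.map (hz.exists w).some := Over.w g
    obtain ⟨χ, h1, -⟩ := exists_fac h (hz.exists w').some (hz.exists w).some g.left hg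
    exact ⟨χ, Over.OverMorphism.ext h1⟩
  · have h1 : 𝒵.p.map φ = 𝒵.p.map ψ := congrArg (fun k => k.left) e
    exact fac_unique h (hz.exists w').some h1 (hz.eq _ _)
  · obtain ⟨x, φ, hφ⟩ := exists_lift h (a := z) rfl y.hom
    have h1 := IsHomLift.domain_eq 𝒵.p y.hom φ
    refine ⟨x, Over.isoMk (eqToIso h1) ?_, ?_⟩
    · show eqToHom h1 ≫ y.hom = 𝒵.p.map (hz.exists x).some
      rw [hz.eq (hz.exists x).some φ]
      have h2 := IsHomLift.fac' 𝒵.p y.hom φ
      rw [h2]; simp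
    · exact isVert_iff.2 ⟨h1, rfl⟩

theorem isRepresentable_of_isTerm (h : FibCat.IsFibGrpd 𝒵.p) {z : 𝒵.obj} (hz : IsTerm z) :
    FibCat.IsRepresentable 𝒵 :=
  ⟨𝒵.p.obj z, toOver hz, isEquivOver_toOver h hz⟩

theorem isRepresentable_iff : FibCat.IsRepresentable 𝒵 ↔ FibCat.IsFibGrpd 𝒵.p ∧ ∃ z : 𝒵.obj, IsTerm z :=
  ⟨fun h => ⟨isFibGrpd_of_isRepresentable h, exists_isTerm_of_isRepresentable h⟩,
    fun ⟨h, _, hz⟩ => isRepresentable_of_isTerm h hz⟩

end K160.Terminal
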