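import Groth.Agent.FibCat.K160.Cart
import Groth.Agent.AlgSt.K734.Yon2
/-!
K160.Yoneda : the 2-Yoneda lemma for fibred categories (evaluation at the identity of `U` on the functors
`C/U ⥤ 𝒳` over `C` that preserve strongly cartesian morphisms is an equivalence onto the fibre over `U`).

* `hom_ext_one`, `exists_homOfOne` : 2-morphisms between functors out of a slice, target sending `toOne g` to strongly
  cartesian morphisms
* `exists_yo` : every object over `U` is the value at `𝟙 U` of a functor preserving strongly cartesian morphisms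
-/

set_option autoImplicit false
set_option backward.isDefEq.respectTransparency false
set_option backward.isDefEq.respectTransparency.types false

universe v₃ u₃ v₂ u₂ v₁ u₁

open CategoryTheory CategoryTheory.Functor

namespace K160.Yoneda

open K734.Fib (IsVert one toOne toOne_comp toOne_self)

variable {C : Type u₁} [Category.{v₁} C] {𝒳 : BasedCategory.{v₂, u₂} C}

/-- `H` sends the morphisms to `𝟙 U` to strongly cartesian morphisms -/
def CartOne {U : C} (H : FibCat.overCat U ⥤ᵇ 𝒳) : Prop :=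
  ∀ g : (FibCat.overCat U).obj, 𝒳.p.IsStronglyCartesian g.hom (H.map (toOne g))

theorem isSC_over {U : C} {R S : C} (f : R ⟶ S) {a b : (FibCat.overCat U).obj} (φ : a ⟶ b)
    (h : (FibCat.overCat U).p.IsHomLift f φ) : (FibCat.overCat U).p.IsStronglyCartesian f φ := by
  have := (K734.Fib.isFibGrpd_overCat U).isStronglyCartesian φ
  exact K160.Cart.isSC_of_lift _ f φ this

theorem toOne_lift {U : C} (g : (FibCat.overCat U).obj) : (FibCat.overCat U).p.IsHomLift g.hom (toOne g) :=
  CategoryTheory.IsHomLift.map (FibCat.overCat U).p (toOne g)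

theorem cartOne_of_preserves {U : C} {H : FibCat.overCat U ⥤ᵇ 𝒳}
    (h : FibCat.PreservesStronglyCartesian H) : CartOne H := fun g =>
  h g.hom (toOne g) (isSC_over _ _ (toOne_lift g))

theorem preserves_of_cartOne {U : C} {H : FibCat.overCat U ⥤ᵇ 𝒳} (h : CartOne H) :
    FibCat.PreservesStronglyCartesian H := by
  intro R S f a b φ hφ
  have hφl : (FibCat.overCat U).p.IsHomLift f φ := inferInstance
  have h1 := IsHomLift.domain_eq (FibCat.overCat U).p f φ
  have h2 := IsHomLift.codomain_eq (FibCat.overCat U).p f φ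
  change a.left = R at h1
  change b.left = S at h2
  subst h1 h2
  have h3 : f = φ.left := IsHomLift.eq_of_isHomLift (FibCat.overCat U).p f φ
  subst h3
  have hb := h b
  have ha := h a
  have e1 : H.map φ ≫ H.map (toOne b) = H.map (toOne a) := by
    rw [← Functor.map_comp, toOne_comp]
  have h5 : 𝒳.p.IsStronglyCartesian (φ.left ≫ b.hom) (H.map φ ≫ H.map (toOne b)) := by
    rw [e1, Over.w φ]; exact ha
  have h6 : 𝒳.p.IsHomLift φ.left (H.map φ) := BasedFunctor.preserves_isHomLift H φ.left φ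
  exact IsStronglyCartesian.of_comp 𝒳.p (g := b.hom) (ψ := H.map (toOne b))

theorem lift_nat {U : C} (G : FibCat.overCat U ⥤ᵇ 𝒳) (g : (FibCat.overCat U).obj) :
    𝒳.p.IsHomLift g.hom (G.map (toOne g)) :=
  have := toOne_lift g
  BasedFunctor.preserves_isHomLift G g.hom (toOne g)

/-- 2-morphisms out of a slice are determined by their value at `𝟙 U`. -/
theorem hom_ext_one {U : C} {G H : FibCat.overCat U ⥤ᵇ 𝒳} (hH : CartOne H) {α β : G ⟶ H}
    (h : α.toNatTrans.app (one U) = β.toNatTrans.app (one U)) : α = β := by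
  apply K734.Fib.hom_ext₂
  intro g
  have := hH g
  have h1 : 𝒳.p.IsHomLift (𝟙 g.left) (α.toNatTrans.app g) := α.isHomLift rfl
  have h2 : 𝒳.p.IsHomLift (𝟙 g.left) (β.toNatTrans.app g) := β.isHomLift rfl
  refine IsStronglyCartesian.ext 𝒳.p g.hom (H.map (toOne g)) (𝟙 g.left) ?_
  have h3 := α.toNatTrans.naturality (toOne g)
  have h4 := β.toNatTrans.naturality (toOne g)
  exact (h3.symm.trans (by rw [h])).trans h4

theorem exists_homOfOne {U : C} (G H : FibCat.overCat U ⥤ᵇ 𝒳) (hH : CartOne H)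
    (φ : G.obj (one U) ⟶ H.obj (one U)) (hφ : 𝒳.p.IsHomLift (𝟙 U) φ) :
    ∃ α : G ⟶ H, α.toNatTrans.app (one U) = φ := by
  have key : ∀ g : (FibCat.overCat U).obj, ∃ χ : G.obj g ⟶ H.obj g, 𝒳.p.IsHomLift (𝟙 g.left) χ ∧
      χ ≫ H.map (toOne g) = G.map (toOne g) ≫ φ := by
    intro g
    have := hH g
    have h1 := lift_nat G g
    obtain ⟨χ, h2, -⟩ := IsStronglyCartesian.universal_property 𝒳.p g.hom (H.map (toOne g)) (𝟙 g.left)
      g.hom (Category.id_comp _).symm (G.map (toOne g) ≫ φ)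
    exact ⟨χ, h2⟩
  choose c hc hc' using key
  refine ⟨{ toNatTrans := { app := c, naturality := ?_ }, isHomLift' := fun g => hc g }, ?_⟩
  · intro g g' f
    have h0 := hH g'
    have h1 := hc g
    have h2 := hc g'
    have h3 : (FibCat.overCat U).p.IsHomLift f.left f := CategoryTheory.IsHomLift.map (FibCat.overCat U).p f
    have h4 : 𝒳.p.IsHomLift f.left (G.map f) := BasedFunctor.preserves_isHomLift G f.left f
    have h5 : 𝒳.p.IsHomLift f.left (H.map f) := BasedFunctor.preserves_isHomLift H f.left f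
    have h6 : 𝒳.p.IsHomLift f.left (G.map f ≫ c g') := IsHomLift.comp_lift_id_right 𝒳.p f.left _ _
    have h7 : 𝒳.p.IsHomLift f.left (c g ≫ H.map f) := IsHomLift.comp_lift_id_left 𝒳.p f.left _ _
    refine IsStronglyCartesian.ext 𝒳.p g'.hom (H.map (toOne g')) f.left ?_
    have e1 : G.map f ≫ G.map (toOne g') = G.map (toOne g) := by
      rw [← Functor.map_comp, toOne_comp]
    have e2 : H.map f ≫ H.map (toOne g') = H.map (toOne g) := by
      rw [← Functor.map_comp, toOne_comp]
    rw [Category.assoc, hc', Category.assoc, e2, hc', ← e1, Category.assoc]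
  · show c (one U) = φ
    have h1 := hc' (one U)
    rw [toOne_self, Functor.map_id, Functor.map_id, Category.comp_id, Category.id_comp] at h1
    exact h1

/-- every object over `U` is isomorphic in its fibre to the value at `𝟙 U` of a functor preserving strongly cartesian
morphisms -/
theorem exists_yo [𝒳.p.IsFibered] {U : C} (x : 𝒳.obj) (hx : 𝒳.p.obj x = U) :
    ∃ (Y : FibCat.overCat U ⥤ᵇ 𝒳) (_ : CartOne Y) (e : Y.obj (one U) ≅ x), 𝒳.p.IsHomLift (𝟙 U) e.hom := by
  have key : ∀ g : (FibCat.overCat U).obj, ∃ (z : 𝒳.obj) (φ : z ⟶ x), 𝒳.p.IsStronglyCartesian g.hom φ :=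
    fun g => K160.Cart.exists_sc_of_isFibered' 𝒳.p hx g.hom
  choose z l hl using key
  have key2 : ∀ (g g' : (FibCat.overCat U).obj) (f : g ⟶ g'), ∃ χ : z g ⟶ z g',
      𝒳.p.IsHomLift f.left χ ∧ χ ≫ l g' = l g := by
    intro g g' f
    have h0 := hl g'
    have h1 := hl g
    obtain ⟨χ, h2, -⟩ := IsStronglyCartesian.universal_property 𝒳.p g'.hom (l g') f.left
      g.hom (Over.w f).symm (l g)
    exact ⟨χ, h2⟩
  choose m hm hm' using key2
  have hobj : ∀ g, 𝒳.p.obj (z g) = g.left := fun g => by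
    have := hl g
    exact IsHomLift.domain_eq 𝒳.p g.hom (l g)
  let Y : FibCat.overCat U ⥤ᵇ 𝒳 :=
    { toFunctor :=
        { obj := z
          map := fun {g g'} f => m g g' f
          map_id := fun g => by
            have h0 := hl g
            have h1 : 𝒳.p.IsHomLift (𝟙 g.left) (𝟙 (z g)) := IsHomLift.id (hobj g)
            have h2 : 𝒳.p.IsHomLift (𝟙 g.left) (m g g (𝟙 g)) := hm g g (𝟙 g)
            exact IsStronglyCartesian.ext 𝒳.p g.hom (l g) (𝟙 g.left) (by rw [hm', Category.id_comp])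
          map_comp := fun {g g' g''} f f' => by
            have h0 := hl g''
            have h1 : 𝒳.p.IsHomLift f.left (m g g' f) := hm g g' f
            have h2 : 𝒳.p.IsHomLift f'.left (m g' g'' f') := hm g' g'' f'
            have h3 : 𝒳.p.IsHomLift (f.left ≫ f'.left) (m g g' f ≫ m g' g'' f') := inferInstance
            have h4 : 𝒳.p.IsHomLift (f.left ≫ f'.left) (m g g'' (f ≫ f')) := hm g g'' (f ≫ f')
            exact IsStronglyCartesian.ext 𝒳.p g''.hom (l g'') (f.left ≫ f'.left)
              (by rw [hm', Category.assoc, hm', hm']) }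
      w := CategoryTheory.Functor.ext hobj (fun g g' f => by
        have h1 : 𝒳.p.IsHomLift f.left (m g g' f) := hm g g' f
        exact IsHomLift.fac' 𝒳.p f.left (m g g' f)) }
  have h1 : 𝒳.p.IsStronglyCartesian (𝟙 U) (l (one U)) := hl (one U)
  have := IsStronglyCartesian.isIso_of_base_isIso 𝒳.p (𝟙 U) (l (one U))
  refine ⟨Y, ?_, asIso (l (one U)), inferInstanceAs (𝒳.p.IsHomLift (𝟙 U) (l (one U)))⟩
  intro g
  have h2 : 𝒳.p.IsStronglyCartesian g.hom (l g) := hl g
  have h3 : m g (one U) (toOne g) ≫ l (one U) = l g := hm' g (one U) (toOne g)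
  have h4 : 𝒳.p.IsHomLift g.hom (m g (one U) (toOne g)) := hm g (one U) (toOne g)
  have h5 : 𝒳.p.IsStronglyCartesian (g.hom ≫ 𝟙 U) (m g (one U) (toOne g) ≫ l (one U)) := by
    rw [h3, Category.comp_id]; exact h2
  exact IsStronglyCartesian.of_comp 𝒳.p (g := 𝟙 U) (ψ := l (one U))

theorem isEquivalence_evalAtId [𝒳.p.IsFibered] (U : C) :
    ((ObjectProperty.ι (FibCat.PreservesStronglyCartesian (𝒳 := FibCat.overCat U) (𝒴 := 𝒳))) ⋙
      FibCat.evalAtId 𝒳 U).IsEquivalence := by
  have hff : ((ObjectProperty.ι (FibCat.PreservesStronglyCartesian (𝒳 := FibCat.overCat U) (𝒴 := 𝒳))) ⋙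
      FibCat.evalAtId 𝒳 U).Full := ⟨fun {G H} φ => by
    obtain ⟨α, hα⟩ := exists_homOfOne G.obj H.obj (cartOne_of_preserves H.property) φ.1 φ.2
    exact ⟨ObjectProperty.homMk α, Functor.Fiber.hom_ext hα⟩⟩
  have hfa : ((ObjectProperty.ι (FibCat.PreservesStronglyCartesian (𝒳 := FibCat.overCat U) (𝒴 := 𝒳))) ⋙
      FibCat.evalAtId 𝒳 U).Faithful := ⟨fun {G H} α β h => by
    apply ObjectProperty.hom_ext
    exact hom_ext_one (cartOne_of_preserves H.property) (congrArg Subtype.val h)⟩
  have hes : ((ObjectProperty.ι (FibCat.PreservesStronglyCartesian (𝒳 := FibCat.overCat U) (𝒴 := 𝒳))) ⋙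
      FibCat.evalAtId 𝒳 U).EssSurj := ⟨fun x => by
    obtain ⟨Y, hY, e, he⟩ := exists_yo x.1 x.2
    have he' : 𝒳.p.IsHomLift (𝟙 U) e.inv := inferInstance
    exact ⟨⟨Y, preserves_of_cartOne hY⟩, ⟨⟨⟨e.hom, he⟩, ⟨e.inv, he'⟩,
      Functor.Fiber.hom_ext e.hom_inv_id, Functor.Fiber.hom_ext e.inv_hom_id⟩⟩⟩⟩
  exact { }

end K160.Yoneda
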